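import Groth.Agent.H21Diag.Chev.Reductive
import Groth.Agent.H21Diag.RankZeroTorus
import Groth.Agent.S3006

/-!
# Over any base, a maximal torus of a reductive group scheme is its own centralizer
-/

set_option autoImplicit false
set_option linter.style.haveILetI false
set_option backward.isDefEq.respectTransparency false
set_option maxHeartbeats 1000000
set_option synthInstance.maxHeartbeats 400000

universe u

open CategoryTheory CategoryTheory.Limits MonoidalCategory CartesianMonoidalCategory MonObj AlgebraicGeometry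

noncomputable section

namespace H21Chev

open Groth.Agent in
/-- **A maximal torus of a reductive group scheme is its own centralizer.** -/
theorem isCentralizerOf_self_of_isMaximalTorus {S : Scheme.{u}} {G T : Over S} [GrpObj G] [GrpObj T]
    (hG : Red.IsReductive G) {i : T ⟶ G} (hT : Red.IsMaximalTorus i) : Red.IsCentralizerOf i i := by
  obtain ⟨hi1, hi2, hiT, hmax⟩ := hT
  haveI := hi1; haveI := hi2
  haveI hGa := hG.1; haveI hGs := hG.2.1
  have hM := H21Diag.isMultTypeFT_of_isTorus hiT
  have hci : IsClosedImmersion i.left :=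
    H21Diag.isClosedImmersion_of_mono (H21Diag.isDiagLoc_of_isMultTypeFT hM) hGa i
  obtain ⟨⟨C, gC, c, hc, hcc, hCs⟩, -⟩ := S3006.result S G T i hci hiT
  letI := gC
  obtain ⟨hc1, hc2, hC⟩ := hc
  haveI := hc1; haveI := hc2; haveI := hCs; haveI := hcc
  haveI : IsAffineHom C.hom := by rw [← Over.w c]; infer_instance
  obtain ⟨f, hf⟩ := (hC _ i).mpr fun X' x q => by
    rw [← MonObj.mul_comp, ← MonObj.mul_comp, H21Diag.mult_comm hM]
  have hiso : ∀ s : S, ∃ U : S.Opens, s ∈ U ∧ IsIso ((Over.pullback U.ι).map f) := by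
    intro s
    haveI : IsMonHom ((Over.pullback (Red.geomPt s)).map i) := H21Diag.isMonHom_map _ i
    haveI : Mono ((Over.pullback (Red.geomPt s)).map i) :=
      haveI := (Over.mapPullbackAdj (Red.geomPt s)).isRightAdjoint
      inferInstance
    obtain ⟨ha, hs, hcn, hU⟩ := hG.2.2 s
    haveI := ha; haveI := hs; haveI := hcn
    have hT' : AGF.IsMaxTorus ((Over.pullback (Red.geomPt s)).map i) :=
      ⟨inferInstance, inferInstance, H21Diag.isTorus_bc hiT _, fun T' _ j _ _ g hT'' hg => hmax s T' j g hT'' hg⟩
    have hself := isCentralizerOf_self hU hT'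
    haveI : IsIso ((Over.pullback (Red.geomPt s)).map f) :=
      H21Diag.isIso_map_of_selfCentralizing (Red.geomPt s) i c hC f hf fun X y hy => (hself.2.2 X y).mpr hy
    exact H21Diag.exists_nhd_isIso_centralizer (isConnected_fibres hG) i hiT c hC f hf s
  haveI : IsIso f.left := by
    choose U hsU hUiso using hiso
    let 𝒲 : C.left.OpenCover := (Scheme.openCoverOfIsOpenCover S U
      (top_le_iff.mp fun s _ => TopologicalSpace.Opens.mem_iSup.mpr ⟨s, hsU s⟩)).pullback₁ C.hom
    refine (IsZariskiLocalAtTarget.iff_of_openCover (P := MorphismProperty.isomorphisms Scheme.{u}) 𝒲).mpr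
      fun s => ?_
    have h := (H19Grp.isPullback_map (U s).ι f).flip
    haveI hI : IsIso ((Over.pullback (U s).ι).map f).left :=
      haveI := hUiso s
      inferInstanceAs (IsIso ((Over.forget _).map ((Over.pullback (U s).ι).map f)))
    show IsIso (pullback.snd f.left (pullback.fst C.hom (U s).ι))
    have := ((IsPullback.of_hasPullback f.left (pullback.fst C.hom (U s).ι)).isoIsPullback_hom_snd _ _
      (H19Grp.isPullback_map (U s).ι f))
    rw [← this]
    infer_instance
  haveI : IsIso f := by
    haveI : IsIso ((Over.forget S).map f) := ‹IsIso f.left›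
    exact isIso_of_reflects_iso f (Over.forget S)
  refine ⟨hi1, hi2, fun X g => ⟨fun h => ?_, fun h => ?_⟩⟩
  · obtain ⟨z, rfl⟩ := h
    exact (hC X _).mp ⟨z ≫ f, by rw [Category.assoc, hf]⟩
  · obtain ⟨z, hz⟩ := (hC X g).mpr h
    exact ⟨z ≫ inv f, by rw [Category.assoc, ← hf, IsIso.inv_hom_id_assoc, hz]⟩

end H21Chev
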