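import Groth.Agent.H21Diag.Chev.SelfCentral
import Groth.Agent.H21Diag.SelfCentral
import Groth.Agent.H20Conj.MaxConv
import Groth.Prelude.Def_SGA3x

/-!
# Reductive group schemes have unipotent rank zero
-/

set_option autoImplicit false
set_option linter.style.haveILetI false
set_option backward.isDefEq.respectTransparency false
set_option maxHeartbeats 1000000
set_option synthInstance.maxHeartbeats 400000

universe u

open CategoryTheory CategoryTheory.Limits MonoidalCategory CartesianMonoidalCategory MonObj AlgebraicGeometry
open Groth.Agent.H27Witt H20Mu H20Conj H20Borel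

noncomputable section

namespace H21Chev

/-- reductive over an algebraically closed field: self-centralising maximal tori -/
theorem isCentralizerOf_self_of_isReductiveOver {k : Type u} [Field k] [IsAlgClosed k] {G T : Over (Sk k)} [GrpObj G]
    [GrpObj T] (hG : Red.IsReductiveOver k G) {iT : T ⟶ G} (hT : Red.IsMaximalTorus iT) :
    Red.IsCentralizerOf iT iT := by
  obtain ⟨ha, hs, hc, hU⟩ := hG
  haveI := ha; haveI := hs; haveI := hc
  exact isCentralizerOf_self hU (H20Conj.isMaxTorus_of_isMaximalTorus hT)

/-- **A reductive group scheme has unipotent rank zero.** -/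
theorem unipotentRankZero_of_isReductive {S : Scheme.{u}} {G : Over S} [GrpObj G] (hG : Red.IsReductive G) :
    SGA3x.UnipotentRankZero G := fun s _T _ _i hi => isCentralizerOf_self_of_isReductiveOver (hG.2.2 s) hi

/-- a self-centralising torus is maximal -/
theorem isMaximalTorus_of_isCentralizerOf_self {S : Scheme.{u}} {G T : Over S} [GrpObj G] [GrpObj T] (i : T ⟶ G)
    (hT : Red.IsTorus T) (hc : Red.IsCentralizerOf i i) : Red.IsMaximalTorus i := by
  haveI := hc.1; haveI := hc.2.1
  exact Groth.Agent.H21Diag.isMaximalTorus_of_centralizer i hT i (fun X g => hc.2.2 X g) (𝟙 _) (Category.id_comp _)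

/-- the fibres of a reductive group scheme are connected -/
theorem isConnected_fibres {S : Scheme.{u}} {G : Over S} [GrpObj G] (hG : Red.IsReductive G) (s : S) :
    _root_.IsConnected (G.hom.base ⁻¹' {s}) := by
  haveI : ConnectedSpace ↥(pullback G.hom (Red.geomPt s)) := (hG.2.2 s).2.2.1
  have hr : Set.range (Red.geomPt s).base = {s} := by
    refine Set.eq_singleton_iff_nonempty_unique_mem.mpr ⟨Set.range_nonempty _, ?_⟩
    rintro _ ⟨t, rfl⟩
    exact (Scheme.Hom.comp_apply _ _ _).trans (Scheme.fromSpecResidueField_apply _ _)
  rw [← hr, ← Scheme.Pullback.range_fst]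
  exact isConnected_range (pullback.fst G.hom (Red.geomPt s)).continuous

end H21Chev
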