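import Groth.Agent.H21Diag.Chev.SelfCentral
import Groth.Agent.H20Borel.Conjugates

/-!
# The conjugates of a maximal torus of a reductive group are dense
-/

set_option autoImplicit false
set_option linter.style.haveILetI false
set_option backward.isDefEq.respectTransparency false
set_option maxHeartbeats 1000000
set_option synthInstance.maxHeartbeats 400000

universe u

open CategoryTheory CategoryTheory.Limits MonoidalCategory CartesianMonoidalCategory MonObj AlgebraicGeometry
open Groth.Agent.H27Witt H20Mu H20Conj H20Borel HopfRep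

noncomputable section

namespace H21Chev

variable {k : Type u} [Field k] [IsAlgClosed k] {G : Over (Sk k)} [GrpObj G] [IsAffine G.left] [Smooth G.hom]
  [ConnectedSpace G.left]

/-- **The union of the conjugates of a self-centralising torus is dense.** -/
theorem injective_conj_self {T : Over (Sk k)} [GrpObj T] {iT : T ⟶ G} (hT : Red.IsTorus T)
    (hc : Red.IsCentralizerOf iT iT) :
    Function.Injective (Fn.pull (fst G T * (snd G T ≫ iT) * (fst G T)⁻¹)) := by
  classical
  haveI := hc.1; haveI := hc.2.1
  haveI := isClosedImmersion_torus iT hT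
  obtain ⟨hTa, hTs, hTc⟩ := torus_props T hT
  haveI := hTa; haveI := hTs; haveI := hTc
  obtain ⟨M, χ, hd⟩ := exists_diag_rep iT hT
  obtain ⟨t₀, ht₀⟩ := exists_regular hT χ
  exact injective_conj iT M hd t₀ ht₀ hc iT (𝟙 T) (Category.id_comp _) t₀ rfl

/-- **The union of the conjugates of a maximal torus of a reductive group is dense.** -/
theorem injective_conj_maxTorus (hR : NoUnipotentNormal G) {T : Over (Sk k)} [GrpObj T] {iT : T ⟶ G}
    (hT : AGF.IsMaxTorus iT) :
    Function.Injective (Fn.pull (fst G T * (snd G T ≫ iT) * (fst G T)⁻¹)) :=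
  injective_conj_self hT.2.2.1 (isCentralizerOf_self hR hT)

/-- A homomorphism trivial on a maximal torus, hence on all its conjugates, is trivial. -/
theorem eq_one_of_maxTorus (hR : NoUnipotentNormal G) {T : Over (Sk k)} [GrpObj T] {iT : T ⟶ G}
    (hT : AGF.IsMaxTorus iT) {H : Over (Sk k)} [GrpObj H] [IsAffine H.left] (φ : G ⟶ H) [IsMonHom φ]
    (h : iT ≫ φ = 1) : φ = 1 := by
  have hinj := injective_conj_maxTorus hR hT
  have hΨ : (fst G T * (snd G T ≫ iT) * (fst G T)⁻¹) ≫ φ =
      (fst G T * (snd G T ≫ iT) * (fst G T)⁻¹) ≫ (1 : G ⟶ H) := by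
    rw [MonObj.comp_one, MonObj.mul_comp, MonObj.mul_comp, GrpObj.inv_comp, Category.assoc, h, MonObj.comp_one,
      _root_.mul_one, mul_inv_cancel]
  refine Fn.hom_ext (AlgHom.ext fun r => hinj ?_)
  rw [← AlgHom.comp_apply, ← AlgHom.comp_apply, ← Fn.pull_comp, ← Fn.pull_comp, hΨ]

end H21Chev
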