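import Groth.Agent.H20Borel.CharScheme
import Groth.Agent.H20Borel.NoSubtorus
import Groth.Agent.H20Borel.LieKolchin
import Groth.Agent.H20Conj.CommTorus
import Groth.Agent.H20Borel.CartanChar

/-!
# Groups without subtorus: characters are trivial, invariant spaces of functions contain constants
-/

set_option autoImplicit false
set_option linter.style.haveILetI false
set_option backward.isDefEq.respectTransparency false
set_option maxHeartbeats 1000000
set_option synthInstance.maxHeartbeats 100000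

universe u

open CategoryTheory CategoryTheory.Limits MonoidalCategory CartesianMonoidalCategory MonObj AlgebraicGeometry
open Groth.Agent.H27Witt H20Mu H20Conj H20Borel

noncomputable section

namespace H21Chev

variable {k : Type u} [Field k] [IsAlgClosed k]

local notation "Pt" X => 𝟙_ (Over (Sk k)) ⟶ X

variable (H : Over (Sk k)) [GrpObj H] [IsAffine H.left] [Smooth H.hom] [ConnectedSpace H.left]

/-- **A group without subtorus has no character.** -/
theorem char_eq_one (hH : Red.HasNoSubtorus k H) (χ : H ⟶ Red.Gm (Sk k)) [IsMonHom χ] : χ = 1 := by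
  refine char_eq_one_of_cochar χ fun d hd => ?_
  haveI := hd
  haveI : LocallyOfFiniteType H.hom := inferInstance
  haveI : ∀ _j : Fin 1, IsMonHom d := fun _ => hd
  obtain ⟨Q, gQ, j, hj, hm, hQ, hfac⟩ := exists_torus (fun _ : Fin 1 => d) (h := fun _ _ s t => by
    show _ * _ = _ * _
    rw [← MonObj.mul_comp, ← MonObj.mul_comp, gm_comm])
  letI := gQ; haveI := hj; haveI := hm
  obtain ⟨q, hq⟩ := hfac 0
  haveI hiso : IsIso Q.hom := hH Q j hQ
  haveI : Mono Q.hom := inferInstance
  have h1 : q = 1 := Over.OverMorphism.ext ((cancel_mono Q.hom).mp (by rw [Over.w, Over.w]))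
  rw [← hq, h1, MonObj.one_comp, MonObj.one_comp]

/-- A multiplicative function without zeros is constant one. -/
theorem mulFn_eq_one (hH : Red.HasNoSubtorus k H) (χ : Fn H) (h0 : ∀ h : Pt H, val h χ ≠ 0)
    (hmul : ∀ a b : Pt H, val (a * b) χ = val a χ * val b χ) : χ = 1 := by
  haveI := Fn.finiteType H
  have hu : IsUnit χ := by
    rw [← Ideal.span_singleton_eq_top]
    by_contra hne
    haveI : Nontrivial (Fn H ⧸ Ideal.span {χ}) := Ideal.Quotient.nontrivial_iff.mpr hne
    haveI : Algebra.FiniteType k (Fn H ⧸ Ideal.span {χ}) :=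
      Algebra.FiniteType.of_surjective (Ideal.Quotient.mkₐ k _) (Ideal.Quotient.mkₐ_surjective k _)
    obtain ⟨φ⟩ := H20Conj.exists_point (k := k) (Fn H ⧸ Ideal.span {χ})
    obtain ⟨x, hx⟩ := Fn.exists_point (X := H) (φ.comp (Ideal.Quotient.mkₐ k _))
    refine h0 x ((AlgHom.congr_fun hx χ).trans ?_)
    rw [AlgHom.comp_apply, Ideal.Quotient.mkₐ_eq_mk,
      Ideal.Quotient.eq_zero_iff_mem.mpr (Ideal.mem_span_singleton_self χ), map_zero]
  haveI : Smooth (H ⊗ H).hom := Groth.Agent.H19Grp.PointsDense.smooth_tensor H H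
  haveI : IsAffine (H ⊗ H).left := inferInstanceAs (IsAffine (pullback H.hom H.hom))
  have huniv : Fn.pull (fst H H * snd H H) χ = Fn.pull (fst H H) χ * Fn.pull (snd H H) χ :=
    Fn.ext_points fun x => by
      show val x _ = val x _
      rw [map_mul, val_pull, val_pull, val_pull, MonObj.comp_mul]
      exact hmul _ _
  have key : ∀ {P : Over (Sk k)} (a b : P ⟶ H), Fn.pull (a * b) χ = Fn.pull a χ * Fn.pull b χ := fun a b => by
    have h := congrArg (Fn.pull (lift a b)) huniv
    rwa [map_mul, Fn.pull_pull, Fn.pull_pull, Fn.pull_pull, MonObj.comp_mul, lift_fst, lift_snd] at h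
  let v : (Fn H)ˣ := hu.unit
  have hv : @Units.val Γ(H.left, ⊤) _ v = χ := hu.unit_spec
  haveI : IsMonHom (GmPts.ptOfUnit (v : Γ(H.left, ⊤)ˣ) : H ⟶ Red.Gm (Sk k)) :=
    isMonHom_ptOfUnit _ fun a b => by rw [hv]; exact key a b
  have h1 := (eq_one_iff_unit _).mp (char_eq_one H hH (GmPts.ptOfUnit (v : Γ(H.left, ⊤)ˣ) : H ⟶ Red.Gm (Sk k)))
  rwa [show chFn (GmPts.ptOfUnit (v : Γ(H.left, ⊤)ˣ) : H ⟶ Red.Gm (Sk k)) = χ from
    (congrArg Units.val (GmPts.unitOfPt_ptOfUnit (v : Γ(H.left, ⊤)ˣ))).trans hv] at h1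

/-- **A finite-dimensional space of functions stable under translations contains the constants.** -/
theorem one_mem_of_stable (hH : Red.HasNoSubtorus k H) (W : Submodule k (Fn H)) [Module.Finite k W] (hne : W ≠ ⊥)
    (hst : ∀ g, ∀ w ∈ W, rTrans H g w ∈ W) : (1 : Fn H) ∈ W := by
  classical
  haveI := Fn.isDomain H
  obtain ⟨U, ⟨hUW, hU0, hUst⟩, hmin⟩ := IsArtinian.set_has_minimal
    {U : Submodule k W | True ∧ U ≠ ⊥ ∧ ∀ g, ∀ w ∈ U, (⟨rTrans H g w.1, hst g w.1 w.2⟩ : W) ∈ U}
    ⟨⊤, trivial, (Submodule.nonzero_mem_of_bot_lt (bot_lt_iff_ne_bot.mpr hne)).elim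
      fun x hx => fun h => hx ((Submodule.mem_bot k).mp (h ▸ (Submodule.mem_top : x ∈ (⊤ : Submodule k W)))),
      fun _ _ _ => Submodule.mem_top⟩
  haveI : Nontrivial U := Submodule.nontrivial_iff_ne_bot.mpr hU0
  letI : AddCommGroup U := Submodule.addCommGroup (R := k) (M := W) U
  let ρ : (Pt H) →* Module.End k U :=
    { toFun := fun g =>
        { toFun := fun w => ⟨⟨rTrans H g w.1.1, hst g w.1.1 w.1.2⟩, hUst g w.1 w.2⟩
          map_add' := fun a b => Subtype.ext (Subtype.ext (map_add (rTrans H g) a.1.1 b.1.1))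
          map_smul' := fun c a => Subtype.ext (Subtype.ext (map_smul (rTrans H g) c a.1.1)) }
      map_one' := LinearMap.ext fun w => Subtype.ext (Subtype.ext (LinearMap.congr_fun (map_one (rTrans H)) w.1.1))
      map_mul' := fun g h => LinearMap.ext fun w =>
        Subtype.ext (Subtype.ext (LinearMap.congr_fun (map_mul (rTrans H) g h) w.1.1)) }
  let Φ : Fn H →ₐ[k] ((Pt H) → k) := Pi.algHom k (fun _ : Pt H => k) fun x => val x
  have hΦ : Function.Injective Φ := fun a b h => Fn.ext_points fun x => congrFun h x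
  have hR : IsIrredFn Φ.range := by
    rintro a ⟨a', rfl⟩ b ⟨b', rfl⟩ hab
    have h0 : a' * b' = 0 := hΦ (by rw [map_mul, map_zero]; exact hab)
    rcases mul_eq_zero.mp h0 with h | h
    · exact Or.inl (by simp [h])
    · exact Or.inr (by simp [h])
  have hrep : IsRegRep Φ.range ρ := by
    intro φ w
    obtain ⟨ψ₀, hψ₀⟩ := LinearMap.exists_extend φ
    obtain ⟨ψ, hψ⟩ := LinearMap.exists_extend ψ₀
    have e : ∀ g, φ (ρ g w) = ψ (rTrans H g w.1.1) := fun g =>
      ((LinearMap.congr_fun hψ (⟨rTrans H g w.1.1, hst g w.1.1 w.1.2⟩ : W)).trans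
        (LinearMap.congr_fun hψ₀ (ρ g w))).symm
    obtain ⟨n, b, c, hbc⟩ := rTrans_decomp H w.1.1
    constructor
    · refine ⟨∑ i, ψ (b i) • c i, funext fun g => ?_⟩
      show val g _ = φ (ρ g w)
      rw [e, hbc, map_sum, map_sum]
      exact Finset.sum_congr rfl fun i _ => by rw [map_smul, map_smul, smul_eq_mul, smul_eq_mul, _root_.mul_comm]
    · refine ⟨Fn.pull ((𝟙 H)⁻¹ : H ⟶ H) (∑ i, ψ (b i) • c i), funext fun g => ?_⟩
      show val g (Fn.pull _ _) = φ (ρ g⁻¹ w)
      rw [val_pull, GrpObj.comp_inv, Category.comp_id, e, hbc, map_sum, map_sum]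
      exact Finset.sum_congr rfl fun i _ => by rw [map_smul, map_smul, smul_eq_mul, smul_eq_mul, _root_.mul_comm]
  haveI := isSolvable_pts_of_hasNoSubtorus H hH
  obtain ⟨v, hv0, -, hv⟩ := exists_eigvec_of_simple hR hrep fun U' hU' => by
    by_contra hcon
    push Not at hcon
    refine hmin (U'.map U.subtype) ⟨trivial, fun h0 => hcon.1 ?_, ?_⟩ (lt_of_le_of_ne
      (by rintro _ ⟨x, -, rfl⟩; exact x.2) fun he => hcon.2 (eq_top_iff.mpr fun x _ => ?_))
    · refine eq_bot_iff.mpr fun x hx => (Submodule.mem_bot k).mpr (Subtype.ext ?_)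
      exact (Submodule.mem_bot k).mp (h0 ▸ Submodule.mem_map_of_mem hx : U.subtype x ∈ (⊥ : Submodule k W))
    · rintro g _ ⟨x, hx, rfl⟩
      exact ⟨ρ g x, hU' g x hx, rfl⟩
    · obtain ⟨y, hy, e⟩ := he.ge x.2
      rwa [← Subtype.ext (p := fun z => z ∈ U) e]
  choose c hc using hv
  set f : Fn H := v.1.1 with hf
  have hf0 : f ≠ 0 := fun h => hv0 (Subtype.ext (Subtype.ext h))
  have hfc : ∀ g x, val (x * g) f = c g * val x f := fun g x => by
    have h : rTrans H g f = c g • f := congrArg (fun z : U => z.1.1) (hc g)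
    have h2 := congrArg (val x) h
    rwa [map_smul, smul_eq_mul, show val x (rTrans H g f) = val x (Fn.pull (rg H g) f) from rfl, val_pull,
      H20Borel.comp_rg] at h2
  obtain ⟨x₀, hx₀⟩ : ∃ x, val x f ≠ 0 := by
    by_contra h
    push Not at h
    exact hf0 (Fn.ext_points fun x => by show val x f = val x 0; rw [h, map_zero])
  have hcmul : ∀ a b, c (a * b) = c a * c b := fun a b => mul_right_cancel₀ hx₀ (by
    rw [← hfc, ← _root_.mul_assoc, hfc, hfc]; ring)
  have hc1 : c 1 = 1 := mul_right_cancel₀ hx₀ (by rw [← hfc, _root_.mul_one, _root_.one_mul])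
  let χ : Fn H := (val x₀ f)⁻¹ • Fn.pull (H20Borel.lg H x₀) f
  have hχ : ∀ g, val g χ = c g := fun g => by
    rw [map_smul, smul_eq_mul, val_pull, H20Borel.comp_lg, hfc, _root_.mul_comm (c g), inv_mul_cancel_left₀ hx₀]
  have hone := mulFn_eq_one H hH χ (fun g => by
    rw [hχ]; exact left_ne_zero_of_mul_eq_one (b := c g⁻¹) (by rw [← hcmul, mul_inv_cancel, hc1]))
    fun a b => by rw [hχ, hχ, hχ, hcmul]
  have hconst : f = val (1 : Pt H) f • (1 : Fn H) := Fn.ext_points fun x => by
    show val x f = val x _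
    have h1 : c x = 1 := by rw [← hχ, hone, map_one]
    rw [map_smul, map_one, smul_eq_mul, _root_.mul_one]
    simpa [h1] using hfc x 1
  have hne1 : val (1 : Pt H) f ≠ 0 := fun h => hf0 (by rw [hconst, h, zero_smul])
  have hmem : val (1 : Pt H) f • (1 : Fn H) ∈ W := hconst ▸ v.1.2
  exact (W.smul_mem_iff hne1).mp hmem

end H21Chev
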