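import Groth.Agent.H21Diag.Chev.ConjDense
import Groth.Agent.H21Diag.Chev.RelSelfCentral
import Groth.Agent.H19Grp.NeutralPts
import Groth.Agent.H19Grp.GeomConnected
import Groth.Agent.H21NormExt.CommonPoint
import Groth.Agent.H8Props.FibreCriterionApps
import Groth.Agent.H8Props.FlatLocus.Scheme

/-!
# fppf locally every point of a reductive group is a product of two conjugates of points of a maximal torus
-/

set_option autoImplicit false
set_option linter.style.haveILetI false
set_option backward.isDefEq.respectTransparency false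
set_option maxHeartbeats 1000000
set_option synthInstance.maxHeartbeats 400000

universe u

open CategoryTheory CategoryTheory.Limits MonoidalCategory CartesianMonoidalCategory MonObj AlgebraicGeometry
open Groth.Agent.H27Witt H20Mu H20Conj H20Borel

noncomputable section

namespace H21Chev

open Groth.Agent

variable {S : Scheme.{u}} {G T : Over S} [GrpObj G]

/-- the conjugation map `(g, t) ↦ g t g⁻¹` -/
abbrev conjMap (i : T ⟶ G) : G ⊗ T ⟶ G := fst G T * (snd G T ≫ i) * (fst G T)⁻¹

/-- Every point is a product of two points in an open set meeting every fibre. -/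
theorem exists_mul_eq_of_meets [GeometricallyIrreducible G.hom] (V : Set G.left) (hV : IsOpen V)
    (hm : ∀ s : S, ∃ v ∈ V, G.hom v = s) (y : G.left) :
    ∃ z : (G ⊗ G).left, (fst G G).left z ∈ V ∧ (snd G G).left z ∈ V ∧ μ[G].left z = y := by
  let d : G ⊗ G ⟶ G := (fst G G)⁻¹ * snd G G
  let φ : G ⊗ G ⟶ G ⊗ G := lift (snd G G * (fst G G)⁻¹) (snd G G)
  let ψ : G ⊗ G ⟶ G ⊗ G := lift (fst G G) d
  have hφd : φ ≫ d = fst G G := by
    simp only [φ, d, MonObj.comp_mul, GrpObj.comp_inv, lift_fst, lift_snd]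
    group
  have hψ : ψ ≫ μ[G] = snd G G := by
    show fst G G * d = _
    simp only [d, mul_inv_cancel_left]
  obtain ⟨v, hv, hvy⟩ := hm (G.hom y)
  obtain ⟨q, hq1, hq2⟩ := Scheme.Pullback.exists_preimage_pullback (f := G.hom) (g := G.hom) v y hvy
  let Fib : Set (G ⊗ G).left := (snd G G).left ⁻¹' {y}
  have hFib : IsPreirreducible Fib := by
    haveI : GeometricallyIrreducible (snd G G).left :=
      inferInstanceAs (GeometricallyIrreducible (pullback.snd G.hom G.hom))
    show IsPreirreducible ((snd G G).left.base ⁻¹' {y})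
    rw [← (snd G G).left.range_fiberι y, ← Set.image_univ]
    exact ((IrreducibleSpace.isIrreducible_univ _).image _
      ((snd G G).left.fiberι y).continuous.continuousOn).isPreirreducible
  obtain ⟨w, hw, hw1, hw2⟩ := hFib ((fst G G).left ⁻¹' V) (d.left ⁻¹' V) (hV.preimage (fst G G).left.continuous)
    (hV.preimage d.left.continuous)
    ⟨q, hq2, by show (fst G G).left q ∈ V; rw [show (fst G G).left q = v from hq1]; exact hv⟩
    ⟨φ.left q, by
        show (snd G G).left (φ.left q) = y
        rw [← Scheme.Hom.comp_apply, ← Over.comp_left, lift_snd]; exact hq2, by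
        show d.left (φ.left q) ∈ V
        rw [← Scheme.Hom.comp_apply, ← Over.comp_left, hφd, show (fst G G).left q = v from hq1]
        exact hv⟩
  refine ⟨ψ.left w, ?_, ?_, ?_⟩
  · rw [← Scheme.Hom.comp_apply, ← Over.comp_left, lift_fst]; exact hw1
  · rw [← Scheme.Hom.comp_apply, ← Over.comp_left, lift_snd]; exact hw2
  · rw [← Scheme.Hom.comp_apply, ← Over.comp_left, hψ]; exact hw

/-- A morphism with generic image in a smooth fibre is flat there, both sides being flat over the base. -/
theorem flat_stalkMap_of_generic {X Y : Over S} [Flat X.hom] [LocallyOfFinitePresentation X.hom]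
    (hY : Smooth Y.hom) (φ : X ⟶ Y) (x : X.left)
    (hgen : ∀ V : Set Y.left, IsOpen V → (∃ v ∈ V, Y.hom v = X.hom x) → φ.left x ∈ V) :
    (φ.left.stalkMap x).hom.Flat := by
  haveI := hY
  let g := Y.hom
  let f := φ.left
  have hfg : f ≫ g = X.hom := Over.w φ
  haveI : Flat (f ≫ g) := hfg ▸ inferInstance
  haveI : LocallyOfFinitePresentation (f ≫ g) := hfg ▸ inferInstance
  let w := (f ≫ g).asFiber x
  let η₀ := MoreMor.fiberMap f g _ w
  haveI : Smooth (g.fiberToSpecResidueField ((f ≫ g) x)) := MorphismProperty.pullback_snd (P := @Smooth) _ _ hY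
  haveI : AlgebraicGeometry.IsReduced (g.fiber ((f ≫ g) x)) :=
    H13AlgSp.isReduced_of_smooth_mor (g.fiberToSpecResidueField ((f ≫ g) x))
  have hηι : g.fiberι _ η₀ = f x := by
    rw [← Scheme.Hom.comp_apply]
    erw [H8Props.FibreCriterion.fiberMap_fiberι]
    rw [Scheme.Hom.comp_apply, Scheme.Hom.fiberι_asFiber]
  have hη : IsGenericPoint η₀ (Set.univ : Set (g.fiber ((f ≫ g) x))) := by
    refine Set.eq_univ_of_forall fun p => mem_closure_iff.mpr fun O hO hpO => ?_
    obtain ⟨V, hV, rfl⟩ := (g.fiberι ((f ≫ g) x)).isEmbedding.isInducing.isOpen_iff.mp hO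
    refine ⟨η₀, ?_, rfl⟩
    show g.fiberι _ η₀ ∈ V
    rw [hηι]
    refine hgen V hV ⟨_, hpO, ?_⟩
    have h := (g.range_fiberι ((f ≫ g) x)).subset ⟨p, rfl⟩
    exact (show g (g.fiberι _ p) = (f ≫ g) x from h).trans (by rw [hfg])
  haveI : IrreducibleSpace (g.fiber ((f ≫ g) x)) :=
    { toPreirreducibleSpace := ⟨hη.isIrreducible.isPreirreducible⟩, toNonempty := ⟨η₀⟩ }
  haveI : IsIntegral (g.fiber ((f ≫ g) x)) := isIntegral_of_irreducibleSpace_of_isReduced _
  have hfield : IsField ((g.fiber ((f ≫ g) x)).presheaf.stalk η₀) := by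
    rw [hη.eq (genericPoint_spec _)]
    exact Field.toIsField (g.fiber ((f ≫ g) x)).functionField
  have h1 : ((MoreMor.fiberMap f g _).stalkMap w).hom.Flat := by
    letI := hfield.toField
    letI := ((MoreMor.fiberMap f g _).stalkMap w).hom.toAlgebra
    exact Module.Flat.of_free
  have h2 := (H8Props.FibreCriterion.flat_stalkMap_of_fiberMap f g _ w h1).1
  rwa [Scheme.Hom.fiberι_asFiber] at h2

variable [GrpObj T]

/-- The conjugation map is flat at some point of each fibre, with image generic in the fibre. -/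
theorem exists_flat_conj_point (hGs : Smooth G.hom) (hGa : IsAffineHom G.hom)
    (hconn : ∀ s : S, _root_.IsConnected (G.hom.base ⁻¹' {s})) {i : T ⟶ G} (hiT : Red.IsTorus T)
    (hi : Red.IsCentralizerOf i i) (s : S) :
    ∃ x : (G ⊗ T).left, ((conjMap i).left.stalkMap x).hom.Flat ∧ (G ⊗ T).hom x = s ∧
      ∀ V : Set G.left, IsOpen V → (∃ v ∈ V, G.hom v = s) → (conjMap i).left x ∈ V := by
  classical
  obtain ⟨hi1, hi2, hic⟩ := hi
  haveI := hi1; haveI := hi2
  haveI := hGs
  haveI := H21EtPt.flat_of_multTypeFT (H21Diag.isMultTypeFT_of_isTorus hiT)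
  haveI := H21Diag.lfp_of_multTypeFT (H21Diag.isMultTypeFT_of_isTorus hiT)
  haveI : Flat (G ⊗ T).hom := inferInstanceAs (Flat (pullback.fst G.hom T.hom ≫ G.hom))
  haveI : LocallyOfFinitePresentation (G ⊗ T).hom :=
    inferInstanceAs (LocallyOfFinitePresentation (pullback.fst G.hom T.hom ≫ G.hom))
  let z := Red.geomPt s
  let F := Over.pullback z
  haveI := H21Diag.geometricallyConnected_of_fibres G hconn
  haveI : Smooth (F.obj G).hom := MorphismProperty.pullback_snd (P := @Smooth) _ _ hGs
  haveI : IsAffineHom (F.obj G).hom := MorphismProperty.pullback_snd (P := @IsAffineHom) _ _ hGa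
  haveI : IsAffine (F.obj G).left := isAffine_of_isAffineHom (F.obj G).hom
  haveI : GeometricallyConnected (F.obj G).hom := inferInstanceAs (GeometricallyConnected (pullback.snd G.hom z))
  haveI : ConnectedSpace ↥(F.obj G).left :=
    GeometricallyConnected.connectedSpace_of_subsingleton (F.obj G).hom
  haveI : IsMonHom (F.map i) := H21Diag.isMonHom_map z i
  haveI : Mono (F.map i) := haveI := (Over.mapPullbackAdj z).isRightAdjoint; inferInstance
  have hT'c : Red.IsCentralizerOf (F.map i) (F.map i) :=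
    ⟨inferInstance, inferInstance, H21Dyn.centralizer_bc z i i hic⟩
  obtain ⟨hTa, hTs, hTc⟩ := torus_props (F.obj T) (H21Diag.isTorus_bc hiT z)
  haveI := hTa; haveI := hTs; haveI := hTc
  let m := Functor.LaxMonoidal.μ F G T
  let q := fst (F.obj G) (F.obj T) * (snd (F.obj G) (F.obj T) ≫ F.map i) * (fst (F.obj G) (F.obj T))⁻¹
  have hq : m ≫ F.map (conjMap i) = q := by
    simp only [m, q, conjMap, Functor.map_mul, Functor.map_inv', Functor.map_comp, MonObj.comp_mul,
      GrpObj.comp_inv, ← Category.assoc]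
    erw [Functor.Monoidal.μ_fst, Functor.Monoidal.μ_snd]
  have hd : DenseRange q.left.base := by
    haveI : IsAffine (F.obj G ⊗ F.obj T).left :=
      inferInstanceAs (IsAffine (pullback (F.obj G).hom (F.obj T).hom))
    exact denseRange_of_injective_pull q (injective_conj_self (H21Diag.isTorus_bc hiT z) hT'c)
  haveI : IsDomain (Fn (F.obj G ⊗ F.obj T)) := isDomain_tensor _ _
  haveI : IsAffine (F.obj G ⊗ F.obj T).left :=
    inferInstanceAs (IsAffine (pullback (F.obj G).hom (F.obj T).hom))
  haveI : IsDomain Γ((F.obj G ⊗ F.obj T).left, ⊤) := ‹IsDomain (Fn (F.obj G ⊗ F.obj T))›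
  haveI : Nonempty ↥(F.obj G ⊗ F.obj T).left := by
    by_contra hne
    haveI := not_nonempty_iff.mp hne
    exact false_of_nontrivial_of_subsingleton Γ((F.obj G ⊗ F.obj T).left, ⊤)
  haveI := isIntegral_of_isAffine_of_isDomain (X := (F.obj G ⊗ F.obj T).left)
  let ξ := genericPoint (F.obj G ⊗ F.obj T).left
  have hξ : closure ({q.left ξ} : Set (F.obj G).left) = Set.univ := by
    refine Set.eq_univ_of_univ_subset ?_
    rw [← hd.closure_range]
    refine closure_minimal ?_ isClosed_closure
    rintro _ ⟨a, rfl⟩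
    exact specializes_iff_mem_closure.mp ((genericPoint_specializes a).map q.left.continuous)
  let x := pullback.fst (G ⊗ T).hom z (m.left ξ)
  have hx : (conjMap i).left x = pullback.fst G.hom z (q.left ξ) := by
    rw [← hq, Over.comp_left, Scheme.Hom.comp_apply]
    show _ = ((F.map (conjMap i)).left ≫ pullback.fst G.hom z) (m.left ξ)
    rw [H19Grp.bc_map_fst, Scheme.Hom.comp_apply]
    rfl
  have hxs : (G ⊗ T).hom x = s := by
    have h1 : (G ⊗ T).hom x = z (pullback.snd (G ⊗ T).hom z (m.left ξ)) := by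
      rw [← Scheme.Hom.comp_apply, ← Scheme.Hom.comp_apply, pullback.condition]
    rw [h1]
    exact (Scheme.Hom.comp_apply _ _ _).trans (Scheme.fromSpecResidueField_apply _ _)
  have hzr : Set.range z.base = {s} := by
    refine Set.eq_singleton_iff_nonempty_unique_mem.mpr ⟨Set.range_nonempty _, ?_⟩
    rintro _ ⟨t, rfl⟩
    exact (Scheme.Hom.comp_apply _ _ _).trans (Scheme.fromSpecResidueField_apply _ _)
  have hgen : ∀ V : Set G.left, IsOpen V → (∃ v ∈ V, G.hom v = s) → (conjMap i).left x ∈ V := by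
    rintro V hV ⟨v, hv, hvs⟩
    obtain ⟨v', rfl⟩ : v ∈ Set.range (pullback.fst G.hom z).base := by
      rw [Scheme.Pullback.range_fst, hzr]; exact hvs
    rw [hx]
    have h : (v' : (F.obj G).left) ∈ closure ({q.left ξ} : Set (F.obj G).left) := by rw [hξ]; trivial
    obtain ⟨p, hp, hp'⟩ := mem_closure_iff.mp h _ (hV.preimage (pullback.fst G.hom z).continuous) hv
    rw [Set.mem_singleton_iff.mp hp'] at hp
    exact hp
  exact ⟨x, flat_stalkMap_of_generic hGs (conjMap i) x fun V hV hVs => hgen V hV (hxs ▸ hVs), hxs, hgen⟩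

/-- **Two conjugates of points of a maximal torus cover the group, flatly.** -/
theorem exists_cover_conj (hGs : Smooth G.hom) (hGa : IsAffineHom G.hom)
    (hconn : ∀ s : S, _root_.IsConnected (G.hom.base ⁻¹' {s})) {i : T ⟶ G} (hiT : Red.IsTorus T)
    (hi : Red.IsCentralizerOf i i) :
    ∃ (W : Over S) (a b : W ⟶ G ⊗ T),
      Flat ((a ≫ conjMap i) * (b ≫ conjMap i)).left ∧ Surjective ((a ≫ conjMap i) * (b ≫ conjMap i)).left ∧
        LocallyOfFinitePresentation ((a ≫ conjMap i) * (b ≫ conjMap i)).left := by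
  classical
  haveI := hGs
  have hM := H21Diag.isMultTypeFT_of_isTorus hiT
  haveI := H21EtPt.flat_of_multTypeFT hM
  haveI := H21Diag.lfp_of_multTypeFT hM
  haveI : LocallyOfFinitePresentation (G ⊗ T).hom :=
    inferInstanceAs (LocallyOfFinitePresentation (pullback.fst G.hom T.hom ≫ G.hom))
  haveI := H21Diag.geometricallyConnected_of_fibres G hconn
  haveI := H19Grp.geometricallyIrreducible_of_geometricallyConnected G
  let Ψ := conjMap i
  haveI : LocallyOfFinitePresentation Ψ.left := by
    have h : LocallyOfFinitePresentation (Ψ.left ≫ G.hom) := by rw [Over.w]; infer_instance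
    exact H12AlgSp.lfp_of_comp Ψ.left G.hom
  let U : (G ⊗ T).left.Opens :=
    ⟨{x | (Ψ.left.stalkMap x).hom.Flat}, H8Props.FlatLocus.isOpen_setOf_flat_stalkMap Ψ.left⟩
  let U' : Over S := Over.mk (U.ι ≫ (G ⊗ T).hom)
  let u : U' ⟶ G ⊗ T := Over.homMk U.ι rfl
  let v : U' ⟶ G := u ≫ Ψ
  haveI : Flat v.left := by
    show Flat (U.ι ≫ Ψ.left)
    rw [Flat.iff_flat_stalkMap]
    intro x
    rw [Scheme.Hom.stalkMap_comp, CommRingCat.hom_comp]
    exact RingHom.Flat.comp x.2 (Flat.stalkMap U.ι x)
  haveI : LocallyOfFinitePresentation v.left :=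
    inferInstanceAs (LocallyOfFinitePresentation (U.ι ≫ Ψ.left))
  refine ⟨U' ⊗ U', fst U' U' ≫ u, snd U' U' ≫ u, ?_⟩
  have he : ((fst U' U' ≫ u) ≫ conjMap i) * ((snd U' U' ≫ u) ≫ conjMap i) = (v ⊗ₘ v) ≫ μ[G] := by
    simp only [Hom.mul_def, Category.assoc]
    congr 1
  rw [he, Over.comp_left]
  haveI : Flat μ[G].left := by
    have h := H21NormExt.flat_mul G
    rwa [show fst G G * snd G G = μ[G] by simp [Hom.mul_def]] at h
  haveI : LocallyOfFinitePresentation μ[G].left := by
    haveI : LocallyOfFinitePresentation (G ⊗ G).hom :=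
      inferInstanceAs (LocallyOfFinitePresentation (pullback.fst G.hom G.hom ≫ G.hom))
    have h : LocallyOfFinitePresentation (μ[G].left ≫ G.hom) := by rw [Over.w]; infer_instance
    exact H12AlgSp.lfp_of_comp μ[G].left G.hom
  let mp := pullback.map U'.hom U'.hom G.hom G.hom v.left v.left (𝟙 S)
    ((Category.comp_id _).trans (Over.w v).symm) ((Category.comp_id _).trans (Over.w v).symm)
  have hvv : (v ⊗ₘ v).left = mp := by
    apply pullback.hom_ext
    · rw [pullback.lift_fst]; exact congrArg CommaMorphism.left (tensorHom_fst v v)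
    · rw [pullback.lift_snd]; exact congrArg CommaMorphism.left (tensorHom_snd v v)
  haveI : Flat (v ⊗ₘ v).left := by
    rw [hvv]; exact MorphismProperty.pullbackMap (P := @Flat) ‹Flat v.left› ‹Flat v.left› (Over.w v).symm (Over.w v).symm
  haveI : LocallyOfFinitePresentation (v ⊗ₘ v).left := by
    rw [hvv]
    exact MorphismProperty.pullbackMap (P := @LocallyOfFinitePresentation) ‹LocallyOfFinitePresentation v.left›
      ‹LocallyOfFinitePresentation v.left› (Over.w v).symm (Over.w v).symm
  refine ⟨inferInstance, ⟨fun y => ?_⟩, inferInstance⟩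
  obtain ⟨z, hz1, hz2, hz⟩ := exists_mul_eq_of_meets (Set.range v.left.base) v.left.isOpenMap.isOpen_range
    (fun s => by
      obtain ⟨x, hx, hxs, -⟩ := exists_flat_conj_point hGs hGa hconn hiT hi s
      refine ⟨Ψ.left x, ⟨⟨x, hx⟩, Scheme.Hom.comp_apply _ _ _⟩, ?_⟩
      rw [← Scheme.Hom.comp_apply, Over.w, hxs]) y
  obtain ⟨w, rfl⟩ : z ∈ Set.range (v ⊗ₘ v).left.base := by
    rw [hvv]
    show z ∈ Set.range (pullback.map U'.hom U'.hom G.hom G.hom v.left v.left (𝟙 S) _ _).base
    erw [Scheme.Pullback.range_map]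
    exact ⟨hz1, hz2⟩
  exact ⟨w, by rw [Scheme.Hom.comp_apply, hz]⟩

/-- **What commutes with all the conjugates of a self-centralising torus is central.** -/
theorem commute_of_commute_conj (hGs : Smooth G.hom) (hGa : IsAffineHom G.hom)
    (hconn : ∀ s : S, _root_.IsConnected (G.hom.base ⁻¹' {s})) {i : T ⟶ G} (hiT : Red.IsTorus T)
    (hi : Red.IsCentralizerOf i i) {X : Over S} (g : X ⟶ G)
    (hg : ∀ (X' : Over S) (x : X' ⟶ X) (h : X' ⟶ G) (q : X' ⟶ T),
      (x ≫ g) * (h * (q ≫ i) * h⁻¹) = (h * (q ≫ i) * h⁻¹) * (x ≫ g))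
    (X' : Over S) (x : X' ⟶ X) (y : X' ⟶ G) : (x ≫ g) * y = y * (x ≫ g) := by
  obtain ⟨W, a, b, hfl, hsu, -⟩ := exists_cover_conj hGs hGa hconn hiT hi
  let F : W ⟶ G := (a ≫ conjMap i) * (b ≫ conjMap i)
  let P : Over S := Over.mk (pullback.fst y.left F.left ≫ X'.hom)
  let π : P ⟶ X' := Over.homMk (pullback.fst y.left F.left) rfl
  let σ : P ⟶ W := Over.homMk (pullback.snd y.left F.left) (by
    show pullback.snd y.left F.left ≫ W.hom = pullback.fst y.left F.left ≫ X'.hom
    rw [← Over.w F, ← Over.w y, ← Category.assoc, ← pullback.condition, Category.assoc])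
  have hπσ : π ≫ y = σ ≫ F := Over.OverMorphism.ext pullback.condition
  haveI : Flat π.left := MorphismProperty.pullback_fst (P := @Flat) _ _ hfl
  haveI : Surjective π.left := MorphismProperty.pullback_fst (P := @Surjective) _ _ hsu
  haveI : Epi π.left := Flat.epi_of_flat_of_surjective _
  have hc : ∀ c : P ⟶ G ⊗ T, Commute ((π ≫ x) ≫ g) (c ≫ conjMap i) := fun c => by
    have h := hg P (π ≫ x) (c ≫ fst G T) (c ≫ snd G T)
    simp only [conjMap, MonObj.comp_mul, GrpObj.comp_inv, Category.assoc] at h ⊢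
    exact h
  have key : π ≫ ((x ≫ g) * y) = π ≫ (y * (x ≫ g)) := by
    rw [MonObj.comp_mul, MonObj.comp_mul, hπσ, show σ ≫ F = ((σ ≫ a) ≫ conjMap i) * ((σ ≫ b) ≫ conjMap i) by
      simp only [F, MonObj.comp_mul σ, Category.assoc], ← Category.assoc π x g]
    exact ((hc (σ ≫ a)).mul_right (hc (σ ≫ b))).eq
  exact Over.OverMorphism.ext ((cancel_epi π.left).mp (congrArg CommaMorphism.left key))

end H21Chev
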