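import Groth.Agent.H21Diag.Chev.Weights
import Groth.Agent.H20Borel.BorelLemmas

/-!
# Subgroups without subtorus of all Borel subgroups through a maximal torus lie in every Borel subgroup
-/

set_option autoImplicit false
set_option linter.style.haveILetI false
set_option backward.isDefEq.respectTransparency false
set_option maxHeartbeats 1000000
set_option synthInstance.maxHeartbeats 100000

universe u

open CategoryTheory CategoryTheory.Limits MonoidalCategory CartesianMonoidalCategory MonObj AlgebraicGeometry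
open Groth.Agent.H27Witt H20Mu H20Conj H20Borel

noncomputable section

namespace H21Chev

variable {k : Type u} [Field k] [IsAlgClosed k]

local notation "Pt" X => 𝟙_ (Over (Sk k)) ⟶ X

variable {G : Over (Sk k)} [GrpObj G] [IsAffine G.left] [Smooth G.hom] [ConnectedSpace G.left]

/-- A Borel subgroup whose conjugate contains the torus. -/
theorem exists_borel_conj {T B : Over (Sk k)} [GrpObj T] [GrpObj B] (iT : T ⟶ G) [IsMonHom iT] (iB : B ⟶ G)
    (hT : Red.IsTorus T) (hB : Red.IsBorelOver k iB) (g : Pt G)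
    (hg : ∀ t : Pt T, ∃ b : Pt B, b ≫ iB = g⁻¹ * (t ≫ iT) * g) :
    ∃ (iB' : B ⟶ G) (t : T ⟶ B), Red.IsBorelOver k iB' ∧ t ≫ iB' = iT ∧
      ∀ b : Pt B, b ≫ iB' = g * (b ≫ iB) * g⁻¹ := by
  haveI := hB.1; haveI := hB.2.1
  obtain ⟨hTa, hTs, -⟩ := torus_props T hT
  haveI := hTa; haveI := hTs
  haveI : LocallyOfFiniteType T.hom := inferInstance
  haveI : AlgebraicGeometry.IsReduced T.left := Groth.Agent.H13AlgSp.isReduced_of_smooth_mor T.hom
  haveI := isIso_conj (g⁻¹ : Pt G)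
  have hB' := isBorelOver_comp_iso hB (H20Mu.conj g⁻¹)
  have hpt : ∀ b : Pt B, b ≫ iB ≫ H20Mu.conj g⁻¹ = g * (b ≫ iB) * g⁻¹ := fun b => by
    rw [← Category.assoc, pt_comp_conj, inv_inv]
  haveI := hB'.2.1
  obtain ⟨t, ht⟩ := exists_factor_pts (iB ≫ H20Mu.conj g⁻¹) iT fun y => by
    obtain ⟨b, hb⟩ := hg y
    exact ⟨b, by rw [hpt, hb]; group⟩
  exact ⟨_, t, hB', ht, hpt⟩

set_option maxHeartbeats 4000000 in
/-- **The covering of the cone**: a subgroup without subtorus lying in all Borel subgroups containing a maximal torus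
lies in all conjugates of any one of them. -/
theorem mem_borel_of_forall {T : Over (Sk k)} [GrpObj T] (iT : T ⟶ G) (hT : AGF.IsMaxTorus iT)
    {H : Over (Sk k)} [GrpObj H] [IsAffine H.left] [Smooth H.hom] [ConnectedSpace H.left]
    (hns : Red.HasNoSubtorus k H) (j : H ⟶ G) [IsMonHom j]
    (hall : ∀ (B : Over (Sk k)) [GrpObj B] (iB : B ⟶ G) (t : T ⟶ B), Red.IsBorelOver k iB → t ≫ iB = iT →
      ∀ h : Pt H, ∃ b : Pt B, b ≫ iB = h ≫ j)
    {B : Over (Sk k)} [GrpObj B] (iB : B ⟶ G) (hB : Red.IsBorelOver k iB) (g : Pt G) (h : Pt H) :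
    ∃ b : Pt B, b ≫ iB = g⁻¹ * (h ≫ j) * g := by
  classical
  haveI := hB.1; haveI := hB.2.1; haveI := hT.1
  haveI : LocallyOfFiniteType G.hom := inferInstance
  obtain ⟨N, φ, F, v, hv, hF, hline, hspan⟩ := exists_spanning_line_rep iB
  obtain ⟨w₀, hw₀, hw₀B⟩ := exists_semi_functional iB hB φ F hF hv
  have hvB : ∀ b : Pt B, ∃ c : k, (φ (b ≫ iB) : Mat k N).mulVec v = c • v := fun b => (hline _).mpr ⟨b, rfl⟩
  have hcl : ∀ x w, PairCl φ v w₀ x w → ∃ (g : Pt G) (a b : k),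
      x = a • (φ g : Mat k N).mulVec v ∧ w = b • Matrix.vecMul w₀ (φ g⁻¹ : Mat k N) :=
    fun x w h => exists_of_inClo iB hB φ F hF hvB hw₀B h
  let mv : (Pt G) → Vec k N → Vec k N := fun g x => (φ g : Mat k N).mulVec x
  have mv_mul : ∀ g h x, mv g (mv h x) = mv (g * h) x := fun g h x => by
    show (φ g : Mat k N).mulVec _ = _
    rw [Matrix.mulVec_mulVec, ← Units.val_mul, ← map_mul]
  have mv_one : ∀ x, mv 1 x = x := fun x => by simp [mv]
  have mv_ne : ∀ g x, x ≠ 0 → mv g x ≠ 0 := fun g x hx h0 => hx (by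
    rw [← mv_one x, ← inv_mul_cancel g, ← mv_mul, h0]; exact Matrix.mulVec_zero _)
  -- the functionals
  let fl : (Pt G) → (Vec k N →ₗ[k] k) := fun g =>
    { toFun := fun x => dotProduct w₀ (mv g⁻¹ x)
      map_add' := fun x y => by simp [mv, Matrix.mulVec_add, dotProduct_add]
      map_smul' := fun c x => by simp [mv, Matrix.mulVec_smul] }
  have fl_eq : ∀ g x, dotProduct (Matrix.vecMul w₀ (φ g⁻¹ : Mat k N)) x = fl g x := fun g x =>
    (Matrix.dotProduct_mulVec _ _ _).symm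
  have fl_mv : ∀ g h x, fl g (mv h x) = dotProduct w₀ (mv (g⁻¹ * h) x) := fun g h x => by
    show dotProduct w₀ (mv g⁻¹ (mv h x)) = _
    rw [mv_mul]
  have hflB : ∀ b : Pt B, ∃ c : k, ∀ x, dotProduct w₀ (mv (b ≫ iB) x) = c * dotProduct w₀ x := fun b => by
    obtain ⟨c, hc⟩ := hw₀B b
    exact ⟨c, fun x => by rw [show dotProduct w₀ (mv (b ≫ iB) x) =
      dotProduct (Matrix.vecMul w₀ (φ (b ≫ iB) : Mat k N)) x from Matrix.dotProduct_mulVec _ _ _, hc, smul_dotProduct, smul_eq_mul]⟩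
  -- the points whose line is fixed by the torus
  let ST : Set (Pt G) := {g | ∀ t : Pt T, ∃ b : Pt B, b ≫ iB = g⁻¹ * (t ≫ iT) * g}
  have hST_of_eig : ∀ g, (∀ t : Pt T, (t ≫ iT) ∈ eigSub φ (mv g v)) → g ∈ ST := fun g hg t => by
    obtain ⟨c, hc⟩ := hg t
    refine (hline _).mp ⟨(c : k), ?_⟩
    show mv (g⁻¹ * (t ≫ iT) * g) v = _
    rw [← mv_mul, ← mv_mul, show mv (t ≫ iT) (mv g v) = (c : k) • mv g v from hc]
    show (φ g⁻¹ : Mat k N).mulVec ((c : k) • mv g v) = _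
    rw [Matrix.mulVec_smul]
    show (c : k) • mv g⁻¹ (mv g v) = _
    rw [mv_mul, inv_mul_cancel, mv_one]
  have hSTf : ∀ g ∈ ST, ∀ t : Pt T, ∃ c : k, ∀ x, fl g (mv (t ≫ iT) x) = c * fl g x := fun g hg t => by
    obtain ⟨b, hb⟩ := hg t
    obtain ⟨c, hc⟩ := hflB b
    refine ⟨c, fun x => ?_⟩
    rw [fl_mv, show g⁻¹ * (t ≫ iT) = (b ≫ iB) * g⁻¹ by rw [hb]; group, ← mv_mul, hc]
    rfl
  -- the cocharacters
  obtain ⟨r, e₀, co, he, -, hprod, hcomm₀⟩ := exists_cochars T hT.2.2.1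
  let e : Fin r → kˣ →* (Pt G) := fun l => haveI := he l
    (postHom (e₀ l ≫ iT)).comp ofParHom
  have hlau : ∀ l, IsLaurent (φ.comp (e l)) := fun l => by
    choose s cc hsc using fun pq : Fin N × Fin N => exists_laurent (Fn.pull (e₀ l ≫ iT) (F pq.1 pq.2))
    refine ⟨Finset.univ.biUnion s, fun i => Matrix.of fun p q => if i ∈ s (p, q) then cc (p, q) i else 0, fun t => ?_⟩
    ext p q
    show (φ (ofPar t ≫ e₀ l ≫ iT) : Mat k N) p q = _
    rw [hF, ← val_pull, hsc (p, q), map_sum, Matrix.sum_apply,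
      ← Finset.sum_subset (Finset.subset_biUnion_of_mem s (Finset.mem_univ (p, q))) (fun i _ hi => by simp [hi])]
    refine Finset.sum_congr rfl fun i hi => ?_
    simp [hi, val_zFn_zpow, par_ofPar, mul_comm]
  have hcomm : ∀ i l s t, Commute (φ (e i s) : Mat k N) (φ (e l t)) := fun i l s t => by
    have h : Commute ((ofPar s ≫ e₀ i) ≫ iT) ((ofPar t ≫ e₀ l) ≫ iT) := by
      rw [Commute, SemiconjBy, ← MonObj.mul_comp, ← MonObj.mul_comp, hcomm₀]
    rw [Category.assoc, Category.assoc] at h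
    exact (h.map φ).map (Units.coeHom (Mat k N))
  have hsub : ∀ R : Subgroup (Pt G), (∀ l t, e l t ∈ R) → ∀ t : Pt T, t ≫ iT ∈ R := fun R hR t =>
    comp_mem_of_cochars iT e₀ co hprod R (fun l u => by
      obtain ⟨a, rfl⟩ : ∃ a, ofPar a = u := ⟨par u, ofPar_par u⟩
      rw [Category.assoc]
      exact hR l a) t
  -- the highest weight
  obtain ⟨Q, hQQ, hQ0, hQc, hQx, hQw, hQe⟩ := exists_top_projection φ v w₀ e hlau hcomm hspan hv
  obtain ⟨g₀, hg₀⟩ : ∃ g, Q.mulVec (mv g v) ≠ 0 := by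
    by_contra hcon
    push Not at hcon
    refine hQ0 (Matrix.toLin'.injective ?_)
    rw [map_zero]
    exact LinearMap.ext_on hspan (by rintro _ ⟨g, rfl⟩; rw [Matrix.toLin'_apply, LinearMap.zero_apply]; exact hcon g)
  obtain ⟨gp, a, -, hgp, -⟩ := hcl _ _ (hQx g₀)
  have ha0 : a ≠ 0 := fun h0 => hg₀ (by rw [show Q.mulVec (mv g₀ v) = _ from hgp, h0, zero_smul])
  have hQv : Q.mulVec (mv gp v) = mv gp v := by
    have h1 := congrArg Q.mulVec hgp
    rw [Matrix.mulVec_mulVec _ Q Q, hQQ, hgp, Matrix.mulVec_smul] at h1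
    exact (smul_right_inj ha0).mp h1.symm
  have hgpST : gp ∈ ST := hST_of_eig gp (hsub _ fun l t => by
    obtain ⟨m, hm⟩ := hQe l
    refine ⟨t ^ m, ?_⟩
    show (φ (e l t) : Mat k N).mulVec (mv gp v) = _
    rw [← hQv, Matrix.mulVec_mulVec _ (φ (e l t) : Mat k N) Q, hm, Matrix.smul_mulVec])
  obtain ⟨g₁, hg₁⟩ : ∃ g, dotProduct w₀ (mv g (mv gp v)) ≠ 0 := by
    by_contra hcon
    push Not at hcon
    refine hw₀ (funext fun l => ?_)
    have h0 : ∀ x, dotProduct w₀ x = 0 := fun x => by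
      have hx : x ∈ Submodule.span k (Set.range fun g : Pt G => (φ g : Mat k N).mulVec v) := hspan ▸ Submodule.mem_top
      induction hx using Submodule.span_induction with
      | mem x hx =>
        obtain ⟨g, rfl⟩ := hx
        have h1 := hcon (g * gp⁻¹)
        rwa [mv_mul, inv_mul_cancel_right] at h1
      | zero => exact dotProduct_zero _
      | add x y _ _ hx hy => rw [dotProduct_add, hx, hy, add_zero]
      | smul c x _ hx => rw [dotProduct_smul, hx, smul_zero]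
    simpa using h0 (Pi.single l 1)
  set w' := Matrix.vecMul (Matrix.vecMul w₀ (φ (g₁⁻¹)⁻¹ : Mat k N)) Q with hw'def
  have hw'v : dotProduct w' (mv gp v) ≠ 0 := by
    rw [hw'def, ← Matrix.dotProduct_mulVec, hQv, inv_inv, ← Matrix.dotProduct_mulVec]
    exact hg₁
  obtain ⟨g₂, -, b₂, -, hb₂⟩ := hcl _ _ (hQw g₁⁻¹)
  have hw'eig : ∀ l u, ∃ c : k, c ≠ 0 ∧ Matrix.vecMul w' (φ (e l u) : Mat k N) = c • w' := fun l u => by
    obtain ⟨m, hm⟩ := hQe l
    refine ⟨((u ^ m : kˣ) : k), Units.ne_zero _, ?_⟩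
    rw [hw'def, Matrix.vecMul_vecMul _ Q, ← (hQc l u).eq, hm, Matrix.vecMul_smul]
  obtain ⟨gm, bm, hbm, -, hgm⟩ := exists_eigen_pair φ v w₀ e hlau hcomm hcl hv w' hw'eig
    (K := PEmpty.{1}) PEmpty.elim (fun l => l.elim) g₂ b₂ (by rw [hw'def]; exact hb₂) (fun l => l.elim)
  have hgmST : gm ∈ ST := hST_of_eig gm (hsub _ hgm)
  have hgmp : fl gm (mv gp v) ≠ 0 := fun h0 => hw'v (by
    rw [hbm, smul_dotProduct, fl_eq, h0, smul_zero])
  -- translates of `fl gm` cover the cone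
  have hcover : ∀ z : Vec k N, z ≠ 0 → PairCl φ v w₀ z 0 → ∃ g : ST, fl g.1 z ≠ 0 := by
    intro z hz hzcl
    obtain ⟨gz, az, -, hgz, -⟩ := hcl _ _ hzcl
    by_contra hcon
    push Not at hcon
    have haz : az ≠ 0 := fun h0 => hz (by rw [hgz, h0, zero_smul])
    obtain ⟨gb, -, -, hfb, hgb⟩ := exists_eigen_pair φ v w₀ e hlau hcomm hcl hv (0 : Vec k N)
      (fun l u => ⟨1, one_ne_zero, by rw [Matrix.zero_vecMul, smul_zero]⟩)
      (K := ST) (fun g => fl g.1) (fun g l t => by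
        obtain ⟨c, hc⟩ := hSTf g.1 g.2 (ofPar t ≫ e₀ l)
        exact ⟨c, fun y => by
          have := hc y
          rwa [Category.assoc] at this⟩) gz 0 (by rw [zero_smul]) (fun g => by
        have := hcon g
        rw [hgz, map_smul, smul_eq_mul, mul_eq_zero] at this
        exact this.resolve_left haz)
    have hgbST : gb ∈ ST := hST_of_eig gb (hsub _ hgb)
    obtain ⟨iB₁, t₁, hB₁, ht₁, hpt₁⟩ := exists_borel_conj iT iB hT.2.2.1 hB gp hgpST
    obtain ⟨iB₂, t₂, hB₂, ht₂, hpt₂⟩ := exists_borel_conj iT iB hT.2.2.1 hB gb hgbST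
    obtain ⟨n, τ, σ, hτ, hσ⟩ := Groth.Agent.S3912.result k G T B B iT iB₁ iB₂ hT hB₁ hB₂ t₁ ht₁ t₂ ht₂
    have hτ' : ∀ t : Pt T, n * (t ≫ iT) * n⁻¹ = (t ≫ τ.hom) ≫ iT := fun t => by
      rw [Category.assoc, hτ, conjBy_eq, ← Category.assoc, pt_comp_conj, inv_inv]
    have hσ' : ∀ b : Pt B, n * (b ≫ iB₁) * n⁻¹ = (b ≫ σ.hom) ≫ iB₂ := fun b => by
      rw [Category.assoc, hσ, conjBy_eq, ← Category.assoc, pt_comp_conj, inv_inv]
    obtain ⟨β, hβ⟩ := mem_of_normalizes iB hB (gb⁻¹ * n * gp) fun b => by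
      refine ⟨b ≫ σ.inv, ?_⟩
      have h1 := hσ' (b ≫ σ.inv)
      rw [hpt₁, show (b ≫ σ.inv) ≫ σ.hom = b by rw [Category.assoc, σ.inv_hom_id, Category.comp_id], hpt₂] at h1
      calc (b ≫ σ.inv) ≫ iB
          = (n * gp)⁻¹ * (n * (gp * ((b ≫ σ.inv) ≫ iB) * gp⁻¹) * n⁻¹) * (n * gp) := by group
        _ = _ := by rw [h1]; group
    have hg'ST : n * gm ∈ ST := fun t => by
      obtain ⟨b, hb⟩ := hgmST (t ≫ τ.inv)
      refine ⟨b, hb.trans ?_⟩
      have h1 := hτ' (t ≫ τ.inv)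
      rw [show (t ≫ τ.inv) ≫ τ.hom = t by rw [Category.assoc, τ.inv_hom_id, Category.comp_id]] at h1
      rw [← h1]; group
    have h0 := hfb ⟨n * gm, hg'ST⟩
    obtain ⟨c, hc⟩ := hvB β
    have hc0 : c ≠ 0 := fun h1 => mv_ne (β ≫ iB) v hv (by
      show (φ (β ≫ iB) : Mat k N).mulVec v = 0
      rw [hc, h1, zero_smul])
    have h2 : mv (n * gp) v = c • mv gb v := by
      rw [show n * gp = gb * (β ≫ iB) by rw [hβ]; group, ← mv_mul, show mv (β ≫ iB) v = c • v from hc]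
      exact Matrix.mulVec_smul _ _ _
    have h3 : fl (n * gm) (mv (n * gp) v) = 0 := by rw [h2, map_smul, h0, smul_zero]
    refine hgmp ?_
    rw [fl_mv] at h3 ⊢
    rwa [show (n * gm)⁻¹ * (n * gp) = gm⁻¹ * gp by group] at h3
  -- the functionals are invariant
  have hfix : ∀ g : ST, ∀ (h : Pt H) x, fl g.1 (mv (h ≫ j) x) = fl g.1 x := by
    rintro ⟨g, hg⟩
    obtain ⟨iB₁, t₁, hB₁, ht₁, hpt₁⟩ := exists_borel_conj iT iB hT.2.2.1 hB g hg
    obtain ⟨x₀, hx₀⟩ : ∃ x₀, fl g x₀ = 1 := by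
      obtain ⟨l, hl⟩ := Function.ne_iff.mp hw₀
      refine ⟨(w₀ l)⁻¹ • mv g (Pi.single l 1), ?_⟩
      rw [map_smul, fl_mv, inv_mul_cancel, mv_one, dotProduct_single, _root_.mul_one, smul_eq_mul]
      exact inv_mul_cancel₀ hl
    have hsemi : ∀ h : Pt H, ∀ x, fl g (mv (h ≫ j) x) = fl g (mv (h ≫ j) x₀) * fl g x := fun h x => by
      obtain ⟨b, hb⟩ := hall B iB₁ t₁ hB₁ ht₁ h
      rw [hpt₁] at hb
      obtain ⟨c, hc⟩ := hflB b
      have h1 : ∀ y, fl g (mv (h ≫ j) y) = c * fl g y := fun y => by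
        rw [fl_mv, ← hb, show g⁻¹ * (g * (b ≫ iB) * g⁻¹) = (b ≫ iB) * g⁻¹ by group, ← mv_mul, hc]
        rfl
      rw [h1, h1 x₀, hx₀, _root_.mul_one]
    let u : Fn H := Fn.pull j (∑ p, ∑ q, ((fl g (Pi.single p 1)) * x₀ q) • F p q)
    have hu : ∀ h, val h u = fl g (mv (h ≫ j) x₀) := fun h => by
      conv_rhs => rw [pi_eq_sum_univ' (mv (h ≫ j) x₀), map_sum]
      rw [val_pull, map_sum]
      refine Finset.sum_congr rfl fun p _ => ?_
      rw [map_sum, map_smul, smul_eq_mul]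
      simp only [mv, Matrix.mulVec, dotProduct, Finset.sum_mul, map_smul, smul_eq_mul, ← hF]
      exact Finset.sum_congr rfl fun q _ => by ring
    have hmul : ∀ a b : Pt H, val (a * b) u = val a u * val b u := fun a b => by
      rw [hu, hu, hu, MonObj.mul_comp, ← mv_mul, hsemi a]
    have hu1 : val (1 : Pt H) u = 1 := by rw [hu, MonObj.one_comp, mv_one, hx₀]
    have hone := mulFn_eq_one H hns u (fun h h0 => one_ne_zero (α := k) (by
      rw [← hu1, ← mul_inv_cancel h, hmul, h0, zero_mul])) hmul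
    intro h x
    rw [hsemi, ← hu, hone, map_one, _root_.one_mul]
  -- conclusion
  have hfixv := eq_self_of_forms (φ.comp (postHom j)) (fun a b => Fn.pull j (F a b)) hns
    (fun h a b => by rw [val_pull]; exact hF _ a b) (fun g : ST => fl g.1) hfix (mv g v) (fun z hz hp => by
      refine hcover z hz ?_
      intro p hpL
      let q : MvPolynomial (Fin N) k := MvPolynomial.aeval (Sum.elim MvPolynomial.X (fun _ => 0)) p
      have hq : ∀ y : Vec k N, MvPolynomial.eval y q = MvPolynomial.eval (Sum.elim y 0) p := fun y => by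
        show ((MvPolynomial.aeval y).comp (MvPolynomial.aeval _)) p = MvPolynomial.aeval (Sum.elim y 0) p
        refine congrArg (fun Φ : MvPolynomial (Fin N ⊕ Fin N) k →ₐ[k] k => Φ p) ?_
        rw [MvPolynomial.comp_aeval]
        exact congrArg _ (funext fun i => by cases i <;> simp)
      have h1 := hp q fun h c => by
        rw [hq]
        have h2 := inClo_pair φ v w₀ ((h ≫ j) * g) c 0
        rw [zero_smul] at h2
        refine h2 p hpL |> fun h3 => ?_
        rw [map_mul, Units.val_mul, ← Matrix.mulVec_mulVec] at h3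
        exact h3
      rwa [hq] at h1) h
  refine (hline _).mp ⟨1, ?_⟩
  rw [one_smul]
  show mv (g⁻¹ * (h ≫ j) * g) v = v
  rw [← mv_mul, ← mv_mul, show mv (h ≫ j) (mv g v) = mv g v from hfixv, mv_mul, inv_mul_cancel, mv_one]

end H21Chev
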