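import Groth.Agent.H21Diag.Chev.CharTriv
import Groth.Agent.H20Borel.FixLine
import Groth.Agent.H20Borel.Gen
import Groth.Agent.H05EGA4.GenericImage

/-!
# Orbits of groups without subtorus in affine space are closed (on rational points)
-/

set_option autoImplicit false
set_option linter.style.haveILetI false
set_option backward.isDefEq.respectTransparency false
set_option maxHeartbeats 1000000
set_option synthInstance.maxHeartbeats 100000

universe u

open CategoryTheory CategoryTheory.Limits MonoidalCategory CartesianMonoidalCategory MonObj AlgebraicGeometry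
open Groth.Agent.H27Witt H20Mu H20Conj H20Borel

noncomputable section

namespace H21Chev

variable {k : Type u} [Field k] [IsAlgClosed k]

local notation "Pt" X => 𝟙_ (Over (Sk k)) ⟶ X

variable {H : Over (Sk k)} [GrpObj H] [IsAffine H.left] [Smooth H.hom] [ConnectedSpace H.left]
  {N : ℕ}

/-- **Kostant–Rosenlicht**: the closure of an orbit is the orbit. -/
theorem mem_orbit_of_vanish (ψ : (𝟙_ (Over (Sk k)) ⟶ H) →* GLk k N) (E : Fin N → Fin N → Fn H)
    (hH : Red.HasNoSubtorus k H) (hE : ∀ (h : 𝟙_ (Over (Sk k)) ⟶ H) a b, (ψ h : Mat k N) a b = val h (E a b))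
    (y z : Vec k N)
    (hz : ∀ p : MvPolynomial (Fin N) k, (∀ h : 𝟙_ (Over (Sk k)) ⟶ H, MvPolynomial.eval ((ψ h : Mat k N).mulVec y) p = 0) →
      MvPolynomial.eval z p = 0) :
    ∃ h : 𝟙_ (Over (Sk k)) ⟶ H, (ψ h : Mat k N).mulVec y = z := by
  classical
  let P := MvPolynomial (Fin N) k
  haveI := Fn.isDomain H
  haveI := Fn.finiteType H
  let mv : (Pt H) → Vec k N → Vec k N := fun g x => (ψ g : Mat k N).mulVec x
  have mv_mul : ∀ g h x, mv g (mv h x) = mv (g * h) x := fun g h x => by
    show (ψ g : Mat k N).mulVec _ = _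
    rw [Matrix.mulVec_mulVec, ← Units.val_mul, ← map_mul]
  let θ : P →ₐ[k] Fn H := MvPolynomial.aeval fun a => ∑ b, y b • E a b
  have hθ : ∀ h (p : P), val h (θ p) = MvPolynomial.eval (mv h y) p := fun h p => by
    show ((val h).comp θ) p = MvPolynomial.aeval (mv h y) p
    refine congrArg (fun F : P →ₐ[k] k => F p) ?_
    rw [MvPolynomial.comp_aeval]
    refine congrArg _ (funext fun a => ?_)
    rw [map_sum]
    show _ = ∑ b, (ψ h : Mat k N) a b * y b
    exact Finset.sum_congr rfl fun b _ => by rw [map_smul, smul_eq_mul, hE, _root_.mul_comm]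
  let Q := RingHom.ker θ
  haveI : Q.IsPrime := RingHom.ker_isPrime θ
  let φ : (P ⧸ Q) →ₐ[k] Fn H := Ideal.kerLiftAlg θ
  have hφ : Function.Injective φ := Ideal.kerLiftAlg_injective θ
  letI : Algebra (P ⧸ Q) (Fn H) := φ.toRingHom.toAlgebra
  haveI : IsScalarTower k (P ⧸ Q) (Fn H) := IsScalarTower.of_algebraMap_eq fun c => (φ.commutes c).symm
  haveI : Algebra.FiniteType (P ⧸ Q) (Fn H) := Algebra.FiniteType.of_restrictScalars_finiteType k _ _
  obtain ⟨f', hf', hopen⟩ :=
    Groth.Agent.H05EGA4.GenericImage.exists_basicOpen_subset_range (A := P ⧸ Q) (B := Fn H) hφ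
  obtain ⟨q₀, rfl⟩ := Ideal.Quotient.mk_surjective f'
  have hQ0 : ∀ p : P, p ∈ Q ↔ ∀ h, MvPolynomial.eval (mv h y) p = 0 := fun p => by
    refine ⟨fun hp h => by rw [← hθ, show θ p = 0 from hp, map_zero], fun hp => Fn.ext_points fun h => ?_⟩
    show val h (θ p) = val h 0
    rw [hθ, map_zero, hp]
  have hin : ∀ x : Vec k N, (∀ p ∈ Q, MvPolynomial.eval x p = 0) → MvPolynomial.eval x q₀ ≠ 0 →
      ∃ h, mv h y = x := by
    intro x hx hx0
    let w : (P ⧸ Q) →ₐ[k] k := Ideal.Quotient.liftₐ Q (MvPolynomial.aeval x) hx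
    obtain ⟨p, hp⟩ := hopen ⟨RingHom.ker w, RingHom.ker_isPrime w⟩ (fun h => hx0 h)
    haveI := p.2
    haveI : Algebra.FiniteType k (Fn H ⧸ p.asIdeal) :=
      Algebra.FiniteType.of_surjective (Ideal.Quotient.mkₐ k _) (Ideal.Quotient.mkₐ_surjective k _)
    obtain ⟨χ⟩ := H20Conj.exists_point (k := k) (Fn H ⧸ p.asIdeal)
    obtain ⟨h, hh⟩ := Fn.exists_point (X := H) (χ.comp (Ideal.Quotient.mkₐ k _))
    refine ⟨h, funext fun a => ?_⟩
    have hmem : Ideal.Quotient.mk Q (MvPolynomial.X a - MvPolynomial.C (x a)) ∈ RingHom.ker w := by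
      rw [RingHom.mem_ker]
      show MvPolynomial.aeval x (MvPolynomial.X a - MvPolynomial.C (x a)) = (0 : k)
      simp
    have h2 : φ (Ideal.Quotient.mk Q (MvPolynomial.X a - MvPolynomial.C (x a))) ∈ p.asIdeal :=
      (congrArg PrimeSpectrum.asIdeal hp).ge hmem
    have h3 : val h (θ (MvPolynomial.X a - MvPolynomial.C (x a))) = 0 := by
      refine (AlgHom.congr_fun hh _).trans ?_
      rw [AlgHom.comp_apply, Ideal.Quotient.mkₐ_eq_mk, Ideal.Quotient.eq_zero_iff_mem.mpr (by exact h2), map_zero]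
    rw [hθ] at h3
    simpa [sub_eq_zero] using h3
  by_contra hcon
  have hzQ : ∀ p ∈ Q, MvPolynomial.eval z p = 0 := fun p hp => hz p ((hQ0 p).mp hp)
  -- the boundary
  let bd : Set (Vec k N) := {x | (∀ p ∈ Q, MvPolynomial.eval x p = 0) ∧ ¬∃ h, mv h y = x}
  let σ : (Pt H) → (P →ₐ[k] P) := fun g =>
    MvPolynomial.aeval fun a => ∑ b, MvPolynomial.C ((ψ g : Mat k N) a b) * MvPolynomial.X b
  have hσ : ∀ g (p : P) x, MvPolynomial.eval x (σ g p) = MvPolynomial.eval (mv g x) p := fun g p x => by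
    show ((MvPolynomial.aeval x).comp (σ g)) p = MvPolynomial.aeval (mv g x) p
    refine congrArg (fun F : P →ₐ[k] k => F p) ?_
    rw [MvPolynomial.comp_aeval]
    refine congrArg _ (funext fun a => ?_)
    simp [mv, Matrix.mulVec, dotProduct]
  have hbd : ∀ g x, x ∈ bd → mv g x ∈ bd := by
    rintro g x ⟨hxQ, hxo⟩
    refine ⟨fun p hp => ?_, ?_⟩
    · rw [← hσ]
      refine hxQ _ ((hQ0 _).mpr fun h => ?_)
      rw [hσ, mv_mul]
      exact (hQ0 p).mp hp _
    · rintro ⟨h, hh⟩
      refine hxo ⟨g⁻¹ * h, ?_⟩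
      rw [← mv_mul, hh, mv_mul, inv_mul_cancel]
      simp [mv]
  let M : Submodule k P :=
    { carrier := {p | ∀ x ∈ bd, MvPolynomial.eval x p = 0}
      add_mem' := fun ha hb x hx => by rw [map_add, ha x hx, hb x hx, add_zero]
      zero_mem' := fun x _ => map_zero _
      smul_mem' := fun c p hp x hx => by rw [MvPolynomial.smul_eval, hp x hx, mul_zero] }
  have hq₀ : q₀ ∈ M := fun x hx => by
    by_contra h0
    exact hx.2 (hin x hx.1 h0)
  let u : P →ₗ[k] Fn H := (Fn.pull ((𝟙 H)⁻¹ : H ⟶ H)).toLinearMap.comp θ.toLinearMap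
  have hu : ∀ h p, val h (u p) = MvPolynomial.eval (mv h⁻¹ y) p := fun h p => by
    show val h (Fn.pull _ (θ p)) = _
    rw [val_pull, show h ≫ ι[H] = h⁻¹ from (Hom.inv_def h).symm, hθ]
  have hequiv : ∀ g p, rTrans H g (u p) = u (σ g⁻¹ p) := fun g p => Fn.ext_points fun h => by
    show val h (Fn.pull (rg H g) (u p)) = val h _
    rw [val_pull, H20Borel.comp_rg, hu, hu, hσ, _root_.mul_inv_rev, ← mv_mul]
  let W : Submodule k (Fn H) := Submodule.span k (Set.range fun g => rTrans H g (u q₀))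
  haveI : Module.Finite k W := by
    obtain ⟨n, b, c, hbc⟩ := rTrans_decomp H (u q₀)
    haveI : Module.Finite k (Submodule.span k (Set.range b)) := Module.Finite.span_of_finite k (Set.finite_range _)
    refine Submodule.finiteDimensional_of_le (Submodule.span_le.mpr ?_ : W ≤ Submodule.span k (Set.range b))
    rintro _ ⟨g, rfl⟩
    show rTrans H g (u q₀) ∈ _
    rw [hbc]
    exact Submodule.sum_mem _ fun i _ => Submodule.smul_mem _ _ (Submodule.subset_span ⟨i, rfl⟩)
  have hWM : W ≤ M.map u := Submodule.span_le.mpr (by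
    rintro _ ⟨g, rfl⟩
    exact ⟨σ g⁻¹ q₀, fun x hx => by rw [hσ]; exact hq₀ _ (hbd _ x hx), (hequiv g q₀).symm⟩)
  have hmem : u q₀ ∈ W := Submodule.subset_span ⟨1, LinearMap.congr_fun (map_one (rTrans H)) _⟩
  have hne : W ≠ ⊥ := fun h => hf' (Ideal.Quotient.eq_zero_iff_mem.mpr ((hQ0 q₀).mpr fun g => by
    have h1 := congrArg (val g⁻¹) ((Submodule.mem_bot k).mp (h ▸ hmem : u q₀ ∈ (⊥ : Submodule k (Fn H))))
    rwa [map_zero, hu, inv_inv] at h1))
  obtain ⟨p, hp, hp1⟩ := hWM (one_mem_of_stable H hH W hne fun g w hw => by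
    have hle : W ≤ W.comap (rTrans H g) := Submodule.span_le.mpr (by
      rintro _ ⟨g', rfl⟩
      exact Submodule.subset_span ⟨g * g', LinearMap.congr_fun (map_mul (rTrans H) g g') _⟩)
    exact hle hw)
  have hpQ : p - 1 ∈ Q := (hQ0 _).mpr fun h => by
    have h1 := congrArg (val h⁻¹) hp1
    rw [hu, inv_inv, map_one] at h1
    rw [map_sub, h1, map_one, sub_self]
  have h2 := hzQ _ hpQ
  rw [map_sub, map_one, hp z ⟨hzQ, hcon⟩, zero_sub, neg_eq_zero] at h2
  exact one_ne_zero h2

omit [IsAlgClosed k] in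
theorem eval_smul_hom {e : ℕ} {p : MvPolynomial (Fin N) k} (hp : p.IsHomogeneous e) (c : k) (x : Vec k N) :
    MvPolynomial.eval (c • x) p = c ^ e * MvPolynomial.eval x p := by
  rw [MvPolynomial.eval_eq', MvPolynomial.eval_eq', Finset.mul_sum]
  refine Finset.sum_congr rfl fun d hd => ?_
  have hdeg : ∑ i, d i = e := by
    rw [← Finsupp.degree_eq_sum, Finsupp.degree_eq_weight_one]
    exact hp (MvPolynomial.mem_support_iff.mp hd)
  simp only [Pi.smul_apply, smul_eq_mul, mul_pow, Finset.prod_mul_distrib, Finset.prod_pow_eq_pow_sum, hdeg]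
  ring

/-- **A group without subtorus fixes the points of a cone covered by invariant affine slices.** -/
theorem eq_self_of_forms (ψ : (𝟙_ (Over (Sk k)) ⟶ H) →* GLk k N) (E : Fin N → Fin N → Fn H)
    (hH : Red.HasNoSubtorus k H) (hE : ∀ (h : 𝟙_ (Over (Sk k)) ⟶ H) a b, (ψ h : Mat k N) a b = val h (E a b))
    {K : Type*} (f : K → Vec k N →ₗ[k] k) (hf : ∀ i (h : 𝟙_ (Over (Sk k)) ⟶ H) x, f i ((ψ h : Mat k N).mulVec x) = f i x) (y : Vec k N)
    (hcov : ∀ z : Vec k N, z ≠ 0 → (∀ p : MvPolynomial (Fin N) k,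
      (∀ (h : 𝟙_ (Over (Sk k)) ⟶ H) (c : k), MvPolynomial.eval (c • (ψ h : Mat k N).mulVec y) p = 0) → MvPolynomial.eval z p = 0) →
        ∃ i, f i z ≠ 0)
    (h : Pt H) : (ψ h : Mat k N).mulVec y = y := by
  classical
  by_cases hy : y = 0
  · rw [hy, Matrix.mulVec_zero]
  haveI := Fn.isDomain H
  obtain ⟨i₀, hi₀⟩ := hcov y hy fun p hp => by
    have := hp 1 1
    rwa [one_smul, map_one, Units.val_one, Matrix.one_mulVec] at this
  let y₁ : Vec k N := (f i₀ y)⁻¹ • y
  have hy₁ : f i₀ y₁ = 1 := by rw [map_smul, smul_eq_mul, inv_mul_cancel₀ hi₀]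
  suffices hsuf : ∀ h, (ψ h : Mat k N).mulVec y₁ = y₁ by
    have := hsuf h
    rw [Matrix.mulVec_smul] at this
    exact (smul_right_inj (inv_ne_zero hi₀)).mp this
  let orb : (Pt H) → Vec k N := fun g => (ψ g : Mat k N).mulVec y₁
  let J : Ideal (MvPolynomial (Fin N) k) :=
    ⨅ (g : Pt H) (c : k), RingHom.ker (MvPolynomial.eval (c • orb g))
  have hJ : ∀ {p : MvPolynomial (Fin N) k}, p ∈ J ↔ ∀ g (c : k), MvPolynomial.eval (c • orb g) p = 0 := by
    simp [J, Ideal.mem_iInf]
  have hfin : ∀ a, (Set.range fun g => orb g a).Finite := by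
    refine finite_values orb (φ := f i₀) (fun g => (hf i₀ g y₁).trans hy₁) (J := J)
      (fun g c p hp => hJ.mp hp g c) fun z hzJ hz0 => ?_
    by_contra hz
    obtain ⟨i, hi⟩ := hcov z hz fun p hp => hzJ p (hJ.mpr fun g c => by
      simp only [orb, y₁, Matrix.mulVec_smul, smul_smul]
      exact hp g _)
    have hfo : ∀ g, f i (orb g) = f i y₁ := fun g => hf i g y₁
    by_cases ha : f i y₁ = 0
    · have hmem : vecPoly (f i) ∈ J := hJ.mpr fun g c => by rw [eval_vecPoly, map_smul, hfo, ha, smul_zero]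
      have := hzJ _ hmem
      rw [eval_vecPoly] at this
      exact hi this
    obtain ⟨g, hg⟩ := mem_orbit_of_vanish ψ E hH hE y₁ ((f i y₁ / f i z) • z) fun p hp => by
      let D := p.totalDegree
      let q : MvPolynomial (Fin N) k := ∑ d ∈ Finset.range (D + 1),
        vecPoly (f i) ^ (D - d) * MvPolynomial.C (f i y₁ ^ d) * MvPolynomial.homogeneousComponent d p
      have hq : ∀ (c : k) (x : Vec k N), MvPolynomial.eval (c • x) q = c ^ D * ∑ d ∈ Finset.range (D + 1),
          f i x ^ (D - d) * f i y₁ ^ d * MvPolynomial.eval x (MvPolynomial.homogeneousComponent d p) := by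
        intro c x
        rw [map_sum, Finset.mul_sum]
        refine Finset.sum_congr rfl fun d hd => ?_
        rw [map_mul, map_mul, map_pow, MvPolynomial.eval_C, eval_vecPoly, map_smul, smul_eq_mul, mul_pow,
          eval_smul_hom (MvPolynomial.homogeneousComponent_isHomogeneous d p)]
        have hdD : D - d + d = D := Nat.sub_add_cancel (by simpa [Nat.lt_succ_iff] using hd)
        conv_rhs => rw [← hdD, pow_add, hdD]
        ring
      have hsum : ∀ x : Vec k N, ∑ d ∈ Finset.range (D + 1),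
          MvPolynomial.eval x (MvPolynomial.homogeneousComponent d p) = MvPolynomial.eval x p := fun x => by
        conv_rhs => rw [← MvPolynomial.sum_homogeneousComponent p]
        rw [map_sum]
      have hqJ : q ∈ J := hJ.mpr fun g c => by
        rw [hq, hfo]
        calc c ^ D * ∑ d ∈ Finset.range (D + 1), f i y₁ ^ (D - d) * f i y₁ ^ d *
              MvPolynomial.eval (orb g) (MvPolynomial.homogeneousComponent d p)
            = c ^ D * (f i y₁ ^ D * ∑ d ∈ Finset.range (D + 1),
                MvPolynomial.eval (orb g) (MvPolynomial.homogeneousComponent d p)) := by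
              congr 1
              rw [Finset.mul_sum]
              refine Finset.sum_congr rfl fun d hd => ?_
              rw [← pow_add, Nat.sub_add_cancel (by simpa [Nat.lt_succ_iff] using hd)]
          _ = 0 := by rw [hsum, hp g]; ring
      have h1 := hzJ q hqJ
      rw [← one_smul k z, hq, one_pow, _root_.one_mul] at h1
      rw [← hsum]
      refine mul_left_cancel₀ (pow_ne_zero D hi) ?_
      rw [mul_zero, Finset.mul_sum]
      refine Eq.trans (Finset.sum_congr rfl fun d hd => ?_) h1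
      rw [eval_smul_hom (MvPolynomial.homogeneousComponent_isHomogeneous d p), div_pow]
      have hdD : D - d + d = D := Nat.sub_add_cancel (by simpa [Nat.lt_succ_iff] using hd)
      conv_lhs => rw [← hdD, pow_add]
      field_simp
    have h1 := congrArg (f i₀) hg
    rw [map_smul, hz0, smul_zero, hf, hy₁] at h1
    exact one_ne_zero h1
  let Φ : Fn H →ₐ[k] ((Pt H) → k) := Pi.algHom k (fun _ : Pt H => k) fun x => val x
  have hΦ : Function.Injective Φ := fun a b h => Fn.ext_points fun x => congrFun h x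
  have hR : IsIrredFn Φ.range := by
    rintro a ⟨a', rfl⟩ b ⟨b', rfl⟩ hab
    have h0 : a' * b' = 0 := hΦ (by rw [map_mul, map_zero]; exact hab)
    rcases mul_eq_zero.mp h0 with h | h
    · exact Or.inl (by simp [h])
    · exact Or.inr (by simp [h])
  intro g
  funext a
  have := eq_of_finite hR (f := fun g => orb g a) ⟨∑ b, y₁ b • E a b, funext fun g => by
    show val g _ = ∑ b, (ψ g : Mat k N) a b * y₁ b
    rw [map_sum]
    exact Finset.sum_congr rfl fun b _ => by rw [map_smul, smul_eq_mul, hE, _root_.mul_comm]⟩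
    (hfin a) (fun g => ⟨g, rfl⟩) g 1
  simpa [orb] using this

end H21Chev
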