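import Groth.Agent.H21Diag.Chev.Fix
import Groth.Agent.H20Borel.CharScheme
import Groth.Agent.H20Torus.Fixed
import Groth.Agent.H21Split.Red0.IsoBase

/-!
# Such subgroups lie in the unipotent radical
-/

set_option autoImplicit false
set_option linter.style.haveILetI false
set_option backward.isDefEq.respectTransparency false
set_option maxHeartbeats 1000000
set_option synthInstance.maxHeartbeats 100000

universe u

open CategoryTheory CategoryTheory.Limits MonoidalCategory CartesianMonoidalCategory MonObj AlgebraicGeometry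
open Groth.Agent.H27Witt H20Mu H20Conj H20Borel HopfRep

noncomputable section

namespace H21Chev

variable {k : Type u} [Field k] [IsAlgClosed k]

local notation "Pt" X => 𝟙_ (Over (Sk k)) ⟶ X

/-- A connected solvable group without characters has no subtorus. -/
theorem hasNoSubtorus_of_char {N : Over (Sk k)} [GrpObj N] [IsAffine N.left] [Smooth N.hom] [ConnectedSpace N.left]
    (hsol : Group.IsSolvable (Pt N)) (hchar : ∀ χ : N ⟶ Red.Gm (Sk k), IsMonHom χ → χ = 1) :
    Red.HasNoSubtorus k N := by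
  intro S gS js hjs hmono hS
  haveI : LocallyOfFiniteType N.hom := inferInstance
  obtain ⟨hSa, hSs, -⟩ := torus_props S hS
  haveI := hSa; haveI := hSs
  haveI : LocallyOfFiniteType S.hom := inferInstance
  haveI hci := isClosedImmersion_torus js hS
  obtain ⟨A, _, _, eN, heN, heN'⟩ := exists_model N
  obtain ⟨B, _, _, eS, heS, hdiag⟩ := isDiagGrp_of_isTorus hS
  haveI := heN; haveI := heN'; haveI := heS
  haveI := isMonHom_iso_inv eS
  haveI : IsMonHom (eS.inv ≫ js ≫ eN.hom) := inferInstance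
  obtain ⟨p, hp⟩ := exists_bialg (eS.inv ≫ js ≫ eN.hom)
  haveI : IsIso eS.inv.left := inferInstanceAs (IsIso ((Over.forget _).map eS.inv))
  haveI : IsIso eN.hom.left := inferInstanceAs (IsIso ((Over.forget _).map eN.hom))
  haveI : IsClosedImmersion (CoactBr.pt (p : A →ₐ[k] B)).left := by
    rw [hp, Over.comp_left, Over.comp_left]; infer_instance
  have hps : Function.Surjective p := surjective_of_isClosedImmersion (p : A →ₐ[k] B)
  have htrig := isTrigonalizable_model eN hsol
  have hA1 : ∀ g : A, IsGroupLikeElem k g → g = 1 := fun g hg => by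
    obtain ⟨χ, hχm, hχ⟩ := exists_char eN.hom hg
    have h1 := (eq_one_iff_unit χ).mp (hchar χ hχm)
    rw [hχ] at h1
    exact (Fn.specAlg (k := k) A).injective (pull_inj_of_iso eN (h1.trans (by rw [map_one, map_one])))
  have hB1 : ∀ gl : B, IsGroupLikeElem k gl → gl = 1 := fun gl hgl => by
    obtain ⟨g, hg, rfl⟩ := exists_groupLike_lift htrig hdiag p hps hgl
    rw [hA1 g hg, map_one]
  have hspan : ∀ b : B, ∃ c : k, b = algebraMap k B c := fun b => by
    have hb : b ∈ Submodule.span k {gl : B | IsGroupLikeElem k gl} := hdiag.ge Submodule.mem_top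
    have hle : Submodule.span k {gl : B | IsGroupLikeElem k gl} ≤ Submodule.span k {(1 : B)} :=
      Submodule.span_mono fun gl hgl => hB1 gl hgl
    obtain ⟨c, hc⟩ := Submodule.mem_span_singleton.mp (hle hb)
    exact ⟨c, by rw [← hc, Algebra.algebraMap_eq_smul_one]⟩
  have hfn : ∀ a : Fn S, ∃ c : k, a = algebraMap k (Fn S) c := fun a => by
    obtain ⟨a', rfl⟩ := pull_surj_of_iso eS a
    obtain ⟨b, rfl⟩ := (Fn.specAlg (k := k) B).surjective a'
    obtain ⟨c, rfl⟩ := hspan b
    exact ⟨c, (congrArg (Fn.pull eS.hom) (AlgEquiv.commutes _ c)).trans (AlgHom.commutes _ c)⟩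
  have hid : 𝟙 S = 1 := Fn.hom_ext (AlgHom.ext fun a => by
    obtain ⟨c, rfl⟩ := hfn a
    rw [AlgHom.commutes, AlgHom.commutes])
  haveI : IsIso (toUnit S) := ⟨(1 : Pt S), by rw [MonObj.comp_one, ← hid], toUnit_unique _ _⟩
  have hsh : (toUnit S).left = S.hom := by
    have := Over.w (toUnit S)
    rwa [show (𝟙_ (Over (Sk k))).hom = 𝟙 _ from rfl, Category.comp_id] at this
  show IsIso S.hom
  rw [← hsh]
  exact ((Over.forget _).mapIso (asIso (toUnit S))).isIso_hom

/-- Connectedness and the absence of subtori pass to the geometric fibres. -/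
theorem geomFibre_props {N : Over (Sk k)} [GrpObj N] [ConnectedSpace N.left] (hN : Red.HasNoSubtorus k N)
    (s : ↥(Spec (CommRingCat.of k))) :
    ConnectedSpace (Red.geomFibre s N).left ∧
      Red.HasNoSubtorus (AlgebraicClosure ((Spec (CommRingCat.of k)).residueField s)) (Red.geomFibre s N) := by
  haveI := H20Conj.isIso_geomPt (k := k) s
  let v := Red.geomPt s
  refine ⟨(Scheme.Hom.homeomorph (pullback.fst N.hom v)).symm.surjective.connectedSpace
    (Scheme.Hom.homeomorph (pullback.fst N.hom v)).symm.continuous, fun T _ j _ _ hT => ?_⟩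
  haveI : IsMonHom ((Over.pullback (inv v)).map j) := Groth.Agent.H21Diag.isMonHom_bcMap _ j
  haveI : IsMonHom ((Over.pullback (inv v)).map j ≫ (Groth.Agent.H21Red0.bcForth v N).hom) :=
    inferInstanceAs (IsMonHom ((Over.pullback (inv v)).map j ≫ (Groth.Agent.H21Red0.bcForth v N).hom))
  exact Groth.Agent.H21Red0.isIso_of_isIso_hom v (hN (Red.bc (inv v) T)
    ((Over.pullback (inv v)).map j ≫ (Groth.Agent.H21Red0.bcForth v N).hom) (H20Conj.isTorus_bc_of_isIso (inv v) hT))

/-- Connectedness and the absence of subtori descend from the geometric fibre. -/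
theorem props_of_geomFibre {U : Over (Sk k)} [GrpObj U]
    (hfib : ∀ s : ↥(Spec (CommRingCat.of k)), ConnectedSpace (Red.geomFibre s U).left ∧
      Red.HasNoSubtorus (AlgebraicClosure ((Spec (CommRingCat.of k)).residueField s)) (Red.geomFibre s U)) :
    ConnectedSpace ↥U.left ∧ Red.HasNoSubtorus k U := by
  let s : ↥(Spec (CommRingCat.of k)) := (IsLocalRing.closedPoint k : PrimeSpectrum k)
  haveI := H20Conj.isIso_geomPt (k := k) s
  let v := Red.geomPt s
  obtain ⟨hconn, hns⟩ := hfib s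
  haveI : ConnectedSpace ↥(pullback U.hom v) := hconn
  refine ⟨(Scheme.Hom.homeomorph (pullback.fst U.hom v)).surjective.connectedSpace
    (Scheme.Hom.homeomorph (pullback.fst U.hom v)).continuous, fun T _ j _ _ hT => ?_⟩
  haveI : IsMonHom ((Over.pullback v).map j) := Groth.Agent.H21Diag.isMonHom_bcMap v j
  haveI : IsIso (pullback.snd T.hom v) :=
    hns (Red.bc v T) ((Over.pullback v).map j) (H20Conj.isTorus_bc_of_isIso v hT)
  show IsIso T.hom
  haveI : IsIso (pullback.fst T.hom v ≫ T.hom) := by rw [pullback.condition]; infer_instance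
  exact IsIso.of_isIso_comp_left (pullback.fst T.hom v) T.hom

variable {G : Over (Sk k)} [GrpObj G] [IsAffine G.left] [Smooth G.hom] [ConnectedSpace G.left]

set_option maxHeartbeats 4000000 in
/-- **The normal subgroup generated by a family of subgroups without subtorus**, when it is solvable. -/
theorem exists_normal_generated {K : Type*} (S : K → Subgroup (Pt G))
    (hgen : ∀ l, ∃ (H : Over (Sk k)) (_ : GrpObj H) (c : H ⟶ G) (_ : IsMonHom c), IsAffine H.left ∧ Smooth H.hom ∧
      ConnectedSpace H.left ∧ Red.HasNoSubtorus k H ∧ S l = (postHom c).range)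
    (hnorm : ∀ g : Pt G, ∀ x ∈ ⨆ l, S l, g⁻¹ * x * g ∈ ⨆ l, S l)
    (hsolR : Group.IsSolvable (clo (⨆ l, S l : Subgroup (Pt G)))) :
    ∃ (N : Over (Sk k)) (_ : GrpObj N) (i : N ⟶ G), IsMonHom i ∧ IsClosedImmersion i.left ∧ Smooth N.hom ∧
      ConnectedSpace N.left ∧ Red.HasNoSubtorus k N ∧ AlgGrp.IsNormalHom i ∧ QuasiCompact N.hom ∧
      ∀ {Y : Over (Sk k)} [IsAffine Y.left] [LocallyOfFiniteType Y.hom] [AlgebraicGeometry.IsReduced Y.left]
        (f : Y ⟶ G), (∀ y : Pt Y, y ≫ f ∈ ⨆ l, S l) → ∃ f' : Y ⟶ N, f' ≫ i = f := by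
  classical
  haveI : LocallyOfFiniteType G.hom := inferInstance
  haveI : AlgebraicGeometry.IsReduced (𝟙_ (Over (Sk k))).left :=
    inferInstanceAs (AlgebraicGeometry.IsReduced (Spec (CommRingCat.of k)))
  haveI : IsAffine (𝟙_ (Over (Sk k))).left := inferInstanceAs (IsAffine (Spec (CommRingCat.of k)))
  haveI : LocallyOfFiniteType (𝟙_ (Over (Sk k))).hom := inferInstanceAs (LocallyOfFiniteType (𝟙 (Sk k)))
  let R : Subgroup (Pt G) := ⨆ l, S l
  have hSR : ∀ l, S l ≤ R := fun l => le_iSup S l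
  -- connectedness
  have hfinp : ∀ s : Finset K, (vanish ((⨆ g ∈ s, S g : Subgroup (Pt G)) : Set (Pt G))).IsPrime := by
    intro s
    induction s using Finset.induction with
    | empty =>
      rw [show (⨆ g ∈ (∅ : Finset K), S g : Subgroup (Pt G)) = ⊥ by simp, Subgroup.coe_bot,
        show ({1} : Set (Pt G)) = {(1 : Pt G)} from rfl]
      exact isPrime_singleton _
    | insert g s hg ih =>
      rw [Finset.iSup_insert, Subgroup.sup_eq_closure]
      obtain ⟨H, gH, c, hc, hHa, hHs, hHc, -, hSg⟩ := hgen g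
      letI := gH; haveI := hc; haveI := hHa; haveI := hHs; haveI := hHc
      rw [hSg]
      exact isPrime_sup (isPrime_range c) ih
  have hmem : ∀ x ∈ R, ∃ s : Finset K, x ∈ (⨆ g ∈ s, S g : Subgroup (Pt G)) := fun x hx => by
    rw [show R = ⨆ s : Finset K, ⨆ g ∈ s, S g from iSup_eq_iSup_finset S] at hx
    refine (Subgroup.mem_iSup_of_directed ?_).mp hx
    exact Monotone.directed_le fun a b hab => biSup_mono fun g hg => Finset.mem_of_subset hab hg
  have hRp : (vanish (R : Set (Pt G))).IsPrime := by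
    refine ⟨fun h => ?_, fun {a b} hab => ?_⟩
    · have := mem_vanish.mp ((h ▸ Submodule.mem_top) : (1 : Fn G) ∈ vanish _) 1 R.one_mem
      simp at this
    by_contra hcon
    rw [not_or, mem_vanish, mem_vanish] at hcon
    push Not at hcon
    obtain ⟨⟨x, hx, ha⟩, ⟨y, hy, hb⟩⟩ := hcon
    obtain ⟨s, hs⟩ := hmem x hx
    obtain ⟨s', hs'⟩ := hmem y hy
    have hle : (⨆ g ∈ s ∪ s', S g : Subgroup (Pt G)) ≤ R := iSup₂_le fun g _ => hSR g
    rcases (hfinp (s ∪ s')).mem_or_mem (x := a) (y := b)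
      (mem_vanish.mpr fun g hg => mem_vanish.mp hab g (hle hg)) with h | h
    · exact ha (mem_vanish.mp h x ((biSup_mono fun g hg => Finset.mem_union_left _ hg :
        (⨆ g ∈ s, S g : Subgroup (Pt G)) ≤ ⨆ g ∈ s ∪ s', S g) hs))
    · exact hb (mem_vanish.mp h y ((biSup_mono fun g hg => Finset.mem_union_right _ hg :
        (⨆ g ∈ s', S g : Subgroup (Pt G)) ≤ ⨆ g ∈ s ∪ s', S g) hs'))
  obtain ⟨N, gN, i, him, hci, hNa, hNs, hNc, hNsol, hNpts, hlift⟩ := exists_subgroup_scheme R hRp hsolR
  letI := gN; haveI := him; haveI := hci; haveI := hNa; haveI := hNs; haveI := hNc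
  haveI : Mono i := Over.mono_of_mono_left _
  have hmemclo : ∀ x ∈ R, x ∈ clo R := fun x hx r hr => mem_vanish.mp hr x hx
  have hclon : ∀ g, ∀ x ∈ clo R, g⁻¹ * x * g ∈ clo R := fun g x hx a ha => by
    rw [← pt_comp_conj, ← val_pull]
    refine hx _ (mem_vanish.mpr fun y hy => ?_)
    rw [val_pull, pt_comp_conj]
    exact mem_vanish.mp ha _ (hnorm g y hy)
  -- characters
  have hchar : ∀ χ : N ⟶ Red.Gm (Sk k), IsMonHom χ → χ = 1 := by
    intro χ hχ
    haveI := hχ
    rw [eq_one_iff_unit]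
    obtain ⟨a, ha⟩ := (IsClosedImmersion.isAffine_surjective_of_isAffine i.left).2
      ((chFn χ - 1 : Fn N) : Γ(N.left, ⊤))
    change Fn.pull i a = chFn χ - 1 at ha
    have hkill : ∀ x ∈ R, ∀ y : Pt N, y ≫ i = x → y ≫ χ = 1 := by
      let K : Subgroup (Pt G) := (MonoidHom.ker (postHom χ)).map (postHom i)
      have hK : R ≤ K := iSup_le fun l => by
        intro x hx
        obtain ⟨H, gH, c, hc, hHa, hHs, hHc, hns, hSl⟩ := hgen l
        letI := gH; haveI := hc; haveI := hHa; haveI := hHs; haveI := hHc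
        haveI : LocallyOfFiniteType H.hom := inferInstance
        haveI : AlgebraicGeometry.IsReduced H.left := Groth.Agent.H13AlgSp.isReduced_of_smooth_mor H.hom
        obtain ⟨f, hf⟩ := hlift c fun h => hmemclo _ (hSR l (hSl.ge ⟨h, rfl⟩))
        haveI : IsMonHom f := by
          haveI : IsMonHom (f ≫ i) := by rw [hf]; infer_instance
          exact Groth.Agent.H21Diag.isMonHom_of_comp_mono f i
        obtain ⟨h, rfl⟩ := hSl.le hx
        refine ⟨h ≫ f, MonoidHom.mem_ker.mpr ?_, (Category.assoc _ _ _).trans (congrArg (h ≫ ·) hf)⟩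
        show (h ≫ f) ≫ χ = 1
        rw [Category.assoc, char_eq_one H hns (f ≫ χ), MonObj.comp_one]
      intro x hx y hy
      obtain ⟨z, hz, hzx⟩ := hK hx
      have hzy : z = y := (cancel_mono i).mp (hzx.trans hy.symm)
      exact hzy ▸ (MonoidHom.mem_ker.mp hz)
    have hva : a ∈ vanish (R : Set (Pt G)) := mem_vanish.mpr fun x hx => by
      obtain ⟨y, hy⟩ := hlift x fun z => by
        rw [toUnit_unique z (𝟙 _), Category.id_comp]
        exact hmemclo x hx
      rw [← hy, ← val_pull, ha, map_sub, map_one, sub_eq_zero]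
      have h1 := (char_comp_eq_one_iff y χ).mp (hkill x hx y hy)
      have h2 : val y (chFn χ) = gamma k (Fn.pull y (chFn χ)) := rfl
      rw [h2, h1, map_one]
    refine sub_eq_zero.mp (Fn.ext_points fun y => ?_)
    show val y _ = val y 0
    rw [← ha, map_zero, val_pull]
    exact hNpts y a hva
  have hNns : Red.HasNoSubtorus k N := by
    obtain ⟨m, hm⟩ := hNsol
    exact hasNoSubtorus_of_char ⟨m, hm _⟩ hchar
  -- normality
  have hnormal : AlgGrp.IsNormalHom i := by
    haveI : Smooth (G ⊗ N).hom := Groth.Agent.H19Grp.PointsDense.smooth_tensor G N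
    haveI : IsAffine (G ⊗ N).left := inferInstanceAs (IsAffine (pullback G.hom N.hom))
    haveI : LocallyOfFiniteType (G ⊗ N).hom := inferInstance
    haveI : AlgebraicGeometry.IsReduced (G ⊗ N).left := Groth.Agent.H13AlgSp.isReduced_of_smooth_mor (G ⊗ N).hom
    obtain ⟨m, hm⟩ := hlift (fst G N * (snd G N ≫ i) * (fst G N)⁻¹) fun y => by
      rw [MonObj.comp_mul, MonObj.comp_mul, GrpObj.comp_inv, ← Category.assoc]
      have h := hclon (y ≫ fst G N)⁻¹ _ (hNpts (y ≫ snd G N))
      rwa [inv_inv] at h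
    intro T' g n
    refine ⟨lift g n ≫ m, ?_⟩
    rw [Category.assoc, hm, MonObj.comp_mul, MonObj.comp_mul, GrpObj.comp_inv, ← Category.assoc, lift_fst, lift_snd]
  exact ⟨N, gN, i, him, hci, hNs, hNc, hNns, hnormal, inferInstance, fun f hf => hlift f fun y => hmemclo _ (hf y)⟩

set_option maxHeartbeats 4000000 in
/-- **A subgroup without subtorus of all Borel subgroups through a maximal torus lies in a normal subgroup without
subtorus.** -/
theorem exists_normal_of_forall {T : Over (Sk k)} [GrpObj T] (iT : T ⟶ G) (hT : AGF.IsMaxTorus iT)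
    {H : Over (Sk k)} [GrpObj H] [IsAffine H.left] [Smooth H.hom] [ConnectedSpace H.left]
    (hns : Red.HasNoSubtorus k H) (j : H ⟶ G) [IsMonHom j]
    (hall : ∀ (B : Over (Sk k)) [GrpObj B] (iB : B ⟶ G) (t : T ⟶ B), Red.IsBorelOver k iB → t ≫ iB = iT →
      ∀ h : Pt H, ∃ b : Pt B, b ≫ iB = h ≫ j) :
    ∃ (N : Over (Sk k)) (_ : GrpObj N) (i : N ⟶ G), IsMonHom i ∧ IsClosedImmersion i.left ∧ Smooth N.hom ∧
      ConnectedSpace N.left ∧ Red.HasNoSubtorus k N ∧ AlgGrp.IsNormalHom i ∧ QuasiCompact N.hom ∧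
      ∃ f : H ⟶ N, f ≫ i = j := by
  classical
  haveI : LocallyOfFiniteType G.hom := inferInstance
  haveI : LocallyOfFiniteType H.hom := inferInstance
  haveI : AlgebraicGeometry.IsReduced H.left := Groth.Agent.H13AlgSp.isReduced_of_smooth_mor H.hom
  haveI : AlgebraicGeometry.IsReduced (𝟙_ (Over (Sk k))).left :=
    inferInstanceAs (AlgebraicGeometry.IsReduced (Spec (CommRingCat.of k)))
  haveI : IsAffine (𝟙_ (Over (Sk k))).left := inferInstanceAs (IsAffine (Spec (CommRingCat.of k)))
  haveI : LocallyOfFiniteType (𝟙_ (Over (Sk k))).hom := inferInstanceAs (LocallyOfFiniteType (𝟙 (Sk k)))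
  obtain ⟨B, gB, iB, hB⟩ := exists_isBorelOver (G := G)
  letI := gB; haveI := hB.1; haveI := hB.2.1
  let c : (Pt G) → (H ⟶ G) := fun g => j ≫ H20Mu.conj g
  haveI : ∀ g, IsMonHom (c g) := fun g => inferInstanceAs (IsMonHom (j ≫ H20Mu.conj g))
  let S : (Pt G) → Subgroup (Pt G) := fun g => (postHom (c g)).range
  let R : Subgroup (Pt G) := ⨆ g, S g
  have hSR : ∀ g, S g ≤ R := fun g => le_iSup S g
  have hS : ∀ g h, h ≫ c g = g⁻¹ * (h ≫ j) * g := fun g h => by
    show h ≫ j ≫ H20Mu.conj g = _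
    rw [← Category.assoc, pt_comp_conj]
  have hRB : R ≤ (postHom iB).range := iSup_le fun g => by
    rintro _ ⟨h, rfl⟩
    obtain ⟨b, hb⟩ := mem_borel_of_forall iT hT hns j hall iB hB g h
    exact ⟨b, show b ≫ iB = h ≫ c g by rw [hS]; exact hb⟩
  have hnorm : ∀ g, ∀ x ∈ R, g⁻¹ * x * g ∈ R := fun g x hx => by
    have hle : R ≤ R.comap (MulAut.conj g⁻¹).toMonoidHom := iSup_le fun g' => by
      rintro _ ⟨h, rfl⟩
      refine hSR (g' * g) ⟨h, ?_⟩
      show h ≫ c (g' * g) = g⁻¹ * (h ≫ c g') * (g⁻¹)⁻¹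
      rw [hS, hS]; group
    simpa [MulAut.conj_apply, _root_.mul_assoc] using hle hx
  have hclo : clo R ≤ (postHom iB).range := fun x hx => clo_range_le iB fun r hr => hx r (vanish_anti hRB hr)
  obtain ⟨n, hn⟩ := hB.2.2.2.2.1
  haveI : Group.IsSolvable (Pt B) := ⟨n, hn _⟩
  haveI : Group.IsSolvable (postHom iB).range :=
    Group.isSolvable_of_surjective (f := (postHom iB).rangeRestrict) (MonoidHom.rangeRestrict_surjective _)
  have hsolR : Group.IsSolvable (clo R) :=
    Group.isSolvable_of_isSolvable_injective (f := Subgroup.inclusion hclo) (Subgroup.inclusion_injective _)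
  obtain ⟨N, gN, i, him, hci, hNs, hNc, hNns, hnormal, hqc, hlift⟩ := exists_normal_generated S
    (fun g => ⟨H, inferInstance, c g, inferInstance, inferInstance, inferInstance, inferInstance, hns, rfl⟩) hnorm hsolR
  obtain ⟨f, hf⟩ := hlift (c 1) fun h => hSR 1 ⟨h, rfl⟩
  refine ⟨N, gN, i, him, hci, hNs, hNc, hNns, hnormal, hqc, f, hf.trans ?_⟩
  show j ≫ H20Mu.conj 1 = j
  refine hom_ext_pts fun h => ?_
  rw [← Category.assoc, pt_comp_conj, inv_one, _root_.one_mul, _root_.mul_one]

/-- **A subgroup without subtorus of all Borel subgroups through a maximal torus lies in the unipotent radical.** -/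
theorem exists_factor_radical {U : Over (Sk k)} [GrpObj U] (u : U ⟶ G) (hU : Par.IsUnipotentRadical u)
    {T : Over (Sk k)} [GrpObj T] (iT : T ⟶ G) (hT : AGF.IsMaxTorus iT)
    {H : Over (Sk k)} [GrpObj H] [IsAffine H.left] [Smooth H.hom] [ConnectedSpace H.left]
    (hns : Red.HasNoSubtorus k H) (j : H ⟶ G) [IsMonHom j]
    (hall : ∀ (B : Over (Sk k)) [GrpObj B] (iB : B ⟶ G) (t : T ⟶ B), Red.IsBorelOver k iB → t ≫ iB = iT →
      ∀ h : Pt H, ∃ b : Pt B, b ≫ iB = h ≫ j) :
    ∃ f : H ⟶ U, f ≫ u = j := by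
  obtain ⟨N, gN, i, him, hci, hNs, hNc, hNns, hnormal, hqc, f, hf⟩ := exists_normal_of_forall iT hT hns j hall
  letI := gN; haveI := him; haveI := hNc
  obtain ⟨f', hf'⟩ := hU.2.2.2.2.2.2 N i hci hnormal hNs hqc (geomFibre_props hNns)
  exact ⟨f ≫ f', by rw [Category.assoc, hf', hf]⟩

/-- **Connected solvable groups have a unipotent radical.** -/
theorem exists_unipotentRadical (hsol : Group.IsSolvable (Pt G)) :
    ∃ (V : Over (Sk k)) (_ : GrpObj V) (v : V ⟶ G), Par.IsUnipotentRadical v := by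
  let Good : Subgroup (Pt G) → Prop := fun R => ∃ (U : Over (Sk k)) (_ : GrpObj U) (u : U ⟶ G) (_ : IsMonHom u),
    IsAffine U.left ∧ Smooth U.hom ∧ ConnectedSpace U.left ∧ Red.HasNoSubtorus k U ∧ AlgGrp.IsNormalHom u ∧
    R = (postHom u).range
  haveI := hsol
  haveI : LocallyOfFiniteType G.hom := inferInstance
  obtain ⟨V, gV, v, hvm, hci, hVs, hVc, hVns, hnormal, hqc, hlift⟩ := exists_normal_generated
    (fun l : {R : Subgroup (Pt G) // Good R} => l.1)
    (fun l => by
      obtain ⟨U, gU, u, hu, ha, hs, hc, hn, -, hR⟩ := l.2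
      exact ⟨U, gU, u, hu, ha, hs, hc, hn, hR⟩)
    (fun g x hx => by
      have hle : (⨆ l : {R : Subgroup (Pt G) // Good R}, l.1) ≤
          (⨆ l : {R : Subgroup (Pt G) // Good R}, l.1).comap (MulAut.conj g⁻¹).toMonoidHom := iSup_le fun l => by
        intro y hy
        obtain ⟨U, gU, u, hu, -, -, -, -, hn, hR⟩ := l.2
        letI := gU
        obtain ⟨z, rfl⟩ := hR.le hy
        obtain ⟨z', hz'⟩ := hn _ g⁻¹ z
        exact le_iSup (fun l : {R : Subgroup (Pt G) // Good R} => l.1) l (hR.ge ⟨z', hz'.symm⟩)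
      simpa [MulAut.conj_apply, _root_.mul_assoc] using hle hx)
    (Group.isSolvable_of_isSolvable_injective (f := (clo _).subtype) Subtype.val_injective)
  letI := gV; haveI := hvm; haveI := hVc
  refine ⟨V, gV, v, hvm, hci, hnormal, hVs, hqc, geomFibre_props hVns, fun U' gU' u' hu' hci' hn' hs' _ hfib => ?_⟩
  haveI := hci'; haveI := hs'
  haveI : IsAffine U'.left := isAffine_of_isAffineHom u'.left
  haveI : LocallyOfFiniteType U'.hom := inferInstance
  haveI : AlgebraicGeometry.IsReduced U'.left := Groth.Agent.H13AlgSp.isReduced_of_smooth_mor U'.hom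
  obtain ⟨hUc, hUns⟩ := props_of_geomFibre hfib
  refine hlift u' fun y => ?_
  exact le_iSup (fun l : {R : Subgroup (Pt G) // Good R} => l.1)
    ⟨(postHom u').range, U', gU', u', hu', inferInstance, hs', hUc, hUns, hn', rfl⟩ ⟨y, rfl⟩

end H21Chev
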