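import Groth.Agent.H21Diag.Chev.RelSelfCentral
import Groth.Agent.S3006
import Groth.Agent.H21Diag.MaxTorusBc
import Groth.Agent.H21Weil.NoTorusExt
import Groth.Agent.S3003

/-!
# Unipotent rank zero is stable under base change
-/

set_option autoImplicit false
set_option linter.style.haveILetI false
set_option backward.isDefEq.respectTransparency false
set_option maxHeartbeats 1000000
set_option synthInstance.maxHeartbeats 400000

universe u

open CategoryTheory CategoryTheory.Limits MonoidalCategory CartesianMonoidalCategory MonObj AlgebraicGeometry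

noncomputable section

namespace H21Chev

open Groth.Agent

variable {S : Scheme.{u}}

/-- being its own centraliser is carried along an isomorphism of groups -/
theorem isCentralizerOf_self_postcomp {G G' T : Over S} [GrpObj G] [GrpObj G'] [GrpObj T] (φ : G ≅ G')
    [IsMonHom φ.hom] {i : T ⟶ G} (h : Red.IsCentralizerOf i i) :
    Red.IsCentralizerOf (i ≫ φ.hom) (i ≫ φ.hom) := by
  obtain ⟨h1, h2, hc⟩ := h
  haveI := h1; haveI := h2
  refine ⟨inferInstance, inferInstance, fun X g => ⟨?_, fun hg => ?_⟩⟩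
  · rintro ⟨w, rfl⟩ X' x q
    have := (hc X (w ≫ i)).mp ⟨w, rfl⟩ X' x q
    simp only [← Category.assoc] at this ⊢
    rw [← MonObj.mul_comp, this, MonObj.mul_comp]
  · obtain ⟨w, hw⟩ := (hc X (g ≫ φ.inv)).mpr fun X' x q => by
      have := congrArg (· ≫ φ.inv) (hg X' x q)
      simpa [MonObj.mul_comp] using this
    exact ⟨w, by rw [← Category.assoc, hw, Category.assoc, φ.inv_hom_id, Category.comp_id]⟩

/-- **Unipotent rank zero is stable under base change.** -/
theorem unipotentRankZero_bc (G : Over S) [GrpObj G] (hGs : Smooth G.hom) (hGa : IsAffineHom G.hom)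
    (hconn : ∀ s : S, _root_.IsConnected (G.hom.base ⁻¹' {s})) (hu : SGA3x.UnipotentRankZero G)
    {P : Scheme.{u}} (e : P ⟶ S) : SGA3x.UnipotentRankZero (Red.bc e G) := by
  intro p T' _ i' hi'
  haveI := hGs; haveI := hGa
  haveI := H21Diag.geometricallyConnected_of_fibres G hconn
  obtain ⟨z, hz⟩ := H21Weil.exists_geomPt_comp e p
  let z₀ := Red.geomPt (e p)
  let z₁ := Red.geomPt p
  let G₀ := Red.bc z₀ G
  haveI hs₀ : Smooth G₀.hom := MorphismProperty.pullback_snd (P := @Smooth) _ _ hGs
  haveI ha₀ : IsAffineHom G₀.hom := MorphismProperty.pullback_snd (P := @IsAffineHom) _ _ hGa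
  obtain ⟨r, i₀, hi₀⟩ := S3003.exists_maxTorus_field G₀
  have hc₀ := hu (e p) _ i₀ hi₀
  let θ : Red.bc z G₀ ≅ Red.bc z₁ (Red.bc e G) :=
    H21Red0.bcTrans z z₀ (z₁ ≫ e) hz G ≪≫ (H21Red0.bcTrans z₁ e (z₁ ≫ e) rfl G).symm
  haveI := H21Red0.isMonHom_bcTrans z z₀ (z₁ ≫ e) hz G
  haveI := H21Red0.isMonHom_bcTrans z₁ e (z₁ ≫ e) rfl G
  haveI : IsMonHom θ.hom := by
    show IsMonHom ((H21Red0.bcTrans z z₀ (z₁ ≫ e) hz G).hom ≫ (H21Red0.bcTrans z₁ e (z₁ ≫ e) rfl G).inv)
    infer_instance
  haveI := hi₀.1; haveI := hi₀.2.1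
  have h1 := S3003.isMaximalTorus_postcomp θ (H21Diag.isMaximalTorus_bc hs₀ ha₀ i₀ z hi₀)
  haveI : IsMonHom ((Over.pullback z).map i₀) := H21Diag.isMonHom_map z i₀
  haveI : Mono ((Over.pullback z).map i₀) := haveI := (Over.mapPullbackAdj z).isRightAdjoint; inferInstance
  have h2 := isCentralizerOf_self_postcomp θ (i := (Over.pullback z).map i₀)
    ⟨inferInstance, inferInstance, H21Dyn.centralizer_bc z i₀ i₀ hc₀.2.2⟩
  haveI : Smooth (Red.bc e G).hom := MorphismProperty.pullback_snd (P := @Smooth) _ _ hGs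
  haveI : IsAffineHom (Red.bc e G).hom := MorphismProperty.pullback_snd (P := @IsAffineHom) _ _ hGa
  haveI : GeometricallyConnected (Red.bc e G).hom := inferInstanceAs (GeometricallyConnected (pullback.snd G.hom e))
  haveI : Smooth (Red.geomFibre p (Red.bc e G)).hom :=
    MorphismProperty.pullback_snd (P := @Smooth) _ _ ‹Smooth (Red.bc e G).hom›
  haveI : IsAffineHom (Red.geomFibre p (Red.bc e G)).hom :=
    MorphismProperty.pullback_snd (P := @IsAffineHom) _ _ ‹IsAffineHom (Red.bc e G).hom›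
  haveI : IsAffine (Red.geomFibre p (Red.bc e G)).left := isAffine_of_isAffineHom (Red.geomFibre p (Red.bc e G)).hom
  haveI : GeometricallyConnected (Red.geomFibre p (Red.bc e G)).hom :=
    inferInstanceAs (GeometricallyConnected (pullback.snd (Red.bc e G).hom z₁))
  haveI : ConnectedSpace ↥(Red.geomFibre p (Red.bc e G)).left :=
    GeometricallyConnected.connectedSpace_of_subsingleton (Red.geomFibre p (Red.bc e G)).hom
  haveI := hi'.1; haveI := hi'.2.1
  have hM := H21Diag.isMultTypeFT_of_isTorus hi'.2.2.1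
  refine ⟨hi'.1, hi'.2.1, fun X g => ⟨?_, H21Diag.selfCentralizing_of_maxTorus _ h1 h2 i' hi' g⟩⟩
  rintro ⟨w, rfl⟩ X' x q
  rw [← Category.assoc, ← MonObj.mul_comp, ← MonObj.mul_comp, H21Diag.mult_comm hM]

/-- base changes have connected fibres -/
theorem isConnected_fibres_bc {G : Over S} [GrpObj G] (hGs : Smooth G.hom)
    (hconn : ∀ s : S, _root_.IsConnected (G.hom.base ⁻¹' {s})) {P : Scheme.{u}} (e : P ⟶ S) (p : P) :
    _root_.IsConnected ((Red.bc e G).hom.base ⁻¹' {p}) := by
  haveI := hGs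
  haveI := H21Diag.geometricallyConnected_of_fibres G hconn
  haveI : GeometricallyConnected (Red.bc e G).hom := inferInstanceAs (GeometricallyConnected (pullback.snd G.hom e))
  exact (Red.bc e G).hom.isConnected_preimage_singleton p

/-- In unipotent rank zero every maximal torus is its own centraliser, over any base. -/
theorem isCentralizerOf_self_of_rankZero {G T : Over S} [GrpObj G] [GrpObj T] (hGs : Smooth G.hom)
    (hGa : IsAffineHom G.hom) (hconn : ∀ s : S, _root_.IsConnected (G.hom.base ⁻¹' {s}))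
    (hu : SGA3x.UnipotentRankZero G) {i : T ⟶ G} (hT : Red.IsMaximalTorus i) : Red.IsCentralizerOf i i := by
  obtain ⟨hi1, hi2, hiT, hmax⟩ := id hT
  haveI := hi1; haveI := hi2
  haveI := hGa; haveI := hGs
  have hM := H21Diag.isMultTypeFT_of_isTorus hiT
  have hci : IsClosedImmersion i.left :=
    H21Diag.isClosedImmersion_of_mono (H21Diag.isDiagLoc_of_isMultTypeFT hM) hGa i
  obtain ⟨⟨C, gC, c, hc, hcc, hCs⟩, -⟩ := S3006.result S G T i hci hiT
  letI := gC
  obtain ⟨hc1, hc2, hC⟩ := hc
  haveI := hc1; haveI := hc2; haveI := hCs; haveI := hcc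
  haveI : IsAffineHom C.hom := by rw [← Over.w c]; infer_instance
  obtain ⟨f, hf⟩ := (hC _ i).mpr fun X' x q => by
    rw [← MonObj.mul_comp, ← MonObj.mul_comp, H21Diag.mult_comm hM]
  have hiso : ∀ s : S, ∃ U : S.Opens, s ∈ U ∧ IsIso ((Over.pullback U.ι).map f) := by
    intro s
    haveI : IsMonHom ((Over.pullback (Red.geomPt s)).map i) := H21Diag.isMonHom_map _ i
    haveI : Mono ((Over.pullback (Red.geomPt s)).map i) :=
      haveI := (Over.mapPullbackAdj (Red.geomPt s)).isRightAdjoint
      inferInstance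
    have hself := hu s _ _ (H21Diag.isMaximalTorus_bc hGs hGa i (Red.geomPt s) hT)
    haveI : IsIso ((Over.pullback (Red.geomPt s)).map f) :=
      H21Diag.isIso_map_of_selfCentralizing (Red.geomPt s) i c hC f hf fun X y hy => (hself.2.2 X y).mpr hy
    exact H21Diag.exists_nhd_isIso_centralizer hconn i hiT c hC f hf s
  haveI : IsIso f.left := by
    choose U hsU hUiso using hiso
    let 𝒲 : C.left.OpenCover := (Scheme.openCoverOfIsOpenCover S U
      (top_le_iff.mp fun s _ => TopologicalSpace.Opens.mem_iSup.mpr ⟨s, hsU s⟩)).pullback₁ C.hom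
    refine (IsZariskiLocalAtTarget.iff_of_openCover (P := MorphismProperty.isomorphisms Scheme.{u}) 𝒲).mpr
      fun s => ?_
    have h := (H19Grp.isPullback_map (U s).ι f).flip
    haveI hI : IsIso ((Over.pullback (U s).ι).map f).left :=
      haveI := hUiso s
      inferInstanceAs (IsIso ((Over.forget _).map ((Over.pullback (U s).ι).map f)))
    show IsIso (pullback.snd f.left (pullback.fst C.hom (U s).ι))
    have := ((IsPullback.of_hasPullback f.left (pullback.fst C.hom (U s).ι)).isoIsPullback_hom_snd _ _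
      (H19Grp.isPullback_map (U s).ι f))
    rw [← this]
    infer_instance
  haveI : IsIso f := by
    haveI : IsIso ((Over.forget S).map f) := ‹IsIso f.left›
    exact isIso_of_reflects_iso f (Over.forget S)
  refine ⟨hi1, hi2, fun X g => ⟨fun h => ?_, fun h => ?_⟩⟩
  · obtain ⟨z, rfl⟩ := h
    exact (hC X _).mp ⟨z ≫ f, by rw [Category.assoc, hf]⟩
  · obtain ⟨z, hz⟩ := (hC X g).mpr h
    exact ⟨z ≫ inv f, by rw [Category.assoc, ← hf, IsIso.inv_hom_id_assoc, hz]⟩

end H21Chev
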