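import Groth.Agent.H21Diag.Chev.OrbitClosed
import Groth.Agent.H20Borel.NormPts
import Groth.Agent.H20Borel.LimitCone
import Groth.Agent.S3912

/-!
# A representation with a spanning line whose stabiliser is a Borel subgroup, and the cone of its pairs
-/

set_option autoImplicit false
set_option linter.style.haveILetI false
set_option backward.isDefEq.respectTransparency false
set_option maxHeartbeats 1000000
set_option synthInstance.maxHeartbeats 100000

universe u

open CategoryTheory CategoryTheory.Limits MonoidalCategory CartesianMonoidalCategory MonObj AlgebraicGeometry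
open Groth.Agent.H27Witt H20Mu H20Conj H20Borel

noncomputable section

namespace H21Chev

variable {k : Type u} [Field k] [IsAlgClosed k]

local notation "Pt" X => 𝟙_ (Over (Sk k)) ⟶ X

variable {G : Over (Sk k)} [GrpObj G] [IsAffine G.left] [Smooth G.hom] [ConnectedSpace G.left]

omit [IsAlgClosed k] [Smooth G.hom] [ConnectedSpace G.left] in
/-- A line representation may be taken spanned by the translates of the line. -/
theorem exists_spanning_line_rep [LocallyOfFiniteType G.hom] {B : Over (Sk k)} [GrpObj B] (iB : B ⟶ G) [IsMonHom iB]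
    [IsClosedImmersion iB.left] :
    ∃ (N : ℕ) (φ : (𝟙_ (Over (Sk k)) ⟶ G) →* GLk k N) (F : Fin N → Fin N → Fn G) (v : Fin N → k),
      v ≠ 0 ∧ (∀ g p q, (φ g : Mat k N) p q = val g (F p q)) ∧
      (∀ g, (∃ c : k, (φ g : Mat k N).mulVec v = c • v) ↔ ∃ b : Pt B, b ≫ iB = g) ∧
      Submodule.span k (Set.range fun g : Pt G => (φ g : Mat k N).mulVec v) = ⊤ := by
  classical
  obtain ⟨N, φ, F, v, hv, hF, hline⟩ := exists_line_rep iB
  let V₀ := Submodule.span k (Set.range fun g : Pt G => (φ g : Mat k N).mulVec v)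
  have hst : ∀ g, ∀ x ∈ V₀, (φ g : Mat k N).mulVec x ∈ V₀ := fun g x hx => by
    have hle : V₀ ≤ V₀.comap (φ g : Mat k N).mulVecLin := Submodule.span_le.mpr (by
      rintro _ ⟨h, rfl⟩
      show (φ g : Mat k N).mulVec ((φ h : Mat k N).mulVec v) ∈ V₀
      rw [Matrix.mulVec_mulVec, ← Units.val_mul, ← map_mul]
      exact Submodule.subset_span ⟨g * h, rfl⟩)
    exact hle hx
  have hvV : v ∈ V₀ := Submodule.subset_span ⟨1, by simp⟩
  let N' := Module.finrank k V₀
  let b : Module.Basis (Fin N') k V₀ := Module.finBasis k V₀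
  let inc : Vec k N' →ₗ[k] Vec k N := V₀.subtype.comp b.equivFun.symm.toLinearMap
  have hinc : Function.Injective inc := Subtype.val_injective.comp b.equivFun.symm.injective
  obtain ⟨ret, hret⟩ := inc.exists_leftInverse_of_injective (LinearMap.ker_eq_bot.mpr hinc)
  have hret' : ∀ x, ret (inc x) = x := fun x => LinearMap.congr_fun hret x
  have hincret : ∀ x ∈ V₀, inc (ret x) = x := fun x hx => by
    obtain ⟨y, hy⟩ := b.equivFun.symm.surjective ⟨x, hx⟩
    rw [show x = inc y from (congrArg Subtype.val hy).symm, hret']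
  have hincV : ∀ x, inc x ∈ V₀ := fun x => (b.equivFun.symm x).2
  let L : Matrix (Fin N') (Fin N) k := LinearMap.toMatrix' ret
  let R : Matrix (Fin N) (Fin N') k := LinearMap.toMatrix' inc
  have hL : ∀ x, L.mulVec x = ret x := fun x => by rw [← Matrix.toLin'_apply, Matrix.toLin'_toMatrix']
  have hR : ∀ x, R.mulVec x = inc x := fun x => by rw [← Matrix.toLin'_apply, Matrix.toLin'_toMatrix']
  have happ : ∀ g x, (L * (φ g : Mat k N) * R).mulVec x = ret ((φ g : Mat k N).mulVec (inc x)) := fun g x => by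
    rw [← Matrix.mulVec_mulVec, ← Matrix.mulVec_mulVec, hR, hL]
  have hext : ∀ A A' : Mat k N', (∀ x, A.mulVec x = A'.mulVec x) → A = A' := fun A A' h =>
    Matrix.toLin'.injective (LinearMap.ext fun x => by simpa using h x)
  let ψ₀ : (Pt G) →* Mat k N' :=
    { toFun := fun g => L * (φ g : Mat k N) * R
      map_one' := hext _ _ fun x => by rw [happ, map_one, Units.val_one, Matrix.one_mulVec, Matrix.one_mulVec, hret']
      map_mul' := fun g h => hext _ _ fun x => by
        conv_rhs => rw [← Matrix.mulVec_mulVec, happ h, happ g, hincret _ (hst h _ (hincV x))]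
        rw [happ, map_mul, Units.val_mul, ← Matrix.mulVec_mulVec] }
  let ψ : (Pt G) →* GLk k N' := ψ₀.toHomUnits
  have hψ : ∀ g x, inc ((ψ g : Mat k N').mulVec x) = (φ g : Mat k N).mulVec (inc x) := fun g x => by
    show inc ((L * (φ g : Mat k N) * R).mulVec x) = _
    rw [happ, hincret _ (hst g _ (hincV x))]
  obtain ⟨v₁, hv₁⟩ : ∃ v₁, inc v₁ = v := ⟨ret v, hincret v hvV⟩
  refine ⟨N', ψ, fun p q => ∑ a, ∑ c, (L p a * R c q) • F a c, v₁, fun h => hv (by rw [← hv₁, h, map_zero]),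
    fun g p q => ?_, fun g => ?_, ?_⟩
  · show (L * (φ g : Mat k N) * R) p q = _
    simp only [Matrix.mul_apply, Finset.sum_mul, map_sum, map_smul, smul_eq_mul, hF]
    rw [Finset.sum_comm]
    exact Finset.sum_congr rfl fun a _ => Finset.sum_congr rfl fun c _ => by ring
  · rw [← hline g]
    refine exists_congr fun c => ⟨fun h => ?_, fun h => hinc ?_⟩
    · have := congrArg inc h
      rwa [hψ, map_smul, hv₁] at this
    · rwa [hψ, map_smul, hv₁]
  · refine Submodule.map_injective_of_injective hinc ?_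
    rw [Submodule.map_span, ← Set.range_comp, Submodule.map_top]
    have e : (inc ∘ fun g : Pt G => (ψ g : Mat k N').mulVec v₁) = fun g : Pt G => (φ g : Mat k N).mulVec v := by
      funext g
      rw [Function.comp_apply, hψ, hv₁]
    rw [e]
    exact le_antisymm (fun x hx => ⟨ret x, hincret x hx⟩) (by rintro _ ⟨y, rfl⟩; exact (b.equivFun.symm y).2)

/-- A semi-invariant functional for a Borel subgroup. -/
theorem exists_semi_functional {B : Over (Sk k)} [GrpObj B] (iB : B ⟶ G) (hB : Red.IsBorelOver k iB)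
    {N : ℕ} (φ : (𝟙_ (Over (Sk k)) ⟶ G) →* GLk k N) (F : Fin N → Fin N → Fn G)
    (hF : ∀ g p q, (φ g : Mat k N) p q = val g (F p q)) {v : Vec k N} (hv : v ≠ 0) :
    ∃ w : Vec k N, w ≠ 0 ∧ ∀ b : Pt B, ∃ c : k, Matrix.vecMul w (φ (b ≫ iB) : Mat k N) = c • w := by
  classical
  haveI := hB.1; haveI := hB.2.1; haveI := hB.2.2.1; haveI := hB.2.2.2.1
  haveI : IsAffine B.left := isAffine_of_isAffineHom iB.left
  obtain ⟨n, hn⟩ := hB.2.2.2.2.1
  haveI : Group.IsSolvable (Pt B) := ⟨n, hn _⟩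
  haveI : Group.IsSolvable (φ.comp (postHom iB)).range :=
    Group.isSolvable_of_surjective (f := (φ.comp (postHom iB)).rangeRestrict) (MonoidHom.rangeRestrict_surjective _)
  obtain ⟨f, -, ⟨x, -, hx⟩, hf⟩ := exists_semiinvariant (isIrredFn_range iB φ F hF) (W := ⊥) (L := ⊤)
    (fun g _ w hw => by rw [(Submodule.mem_bot k).mp hw, Matrix.mulVec_zero]; exact Submodule.zero_mem _)
    (fun g _ w _ => Submodule.mem_top) (lt_of_le_of_ne bot_le fun h =>
      hv ((Submodule.mem_bot k).mp (h.ge Submodule.mem_top)))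
  let w : Vec k N := fun a => f (Pi.single a 1)
  have hw : ∀ y, dotProduct w y = f y := fun y => by
    conv_rhs => rw [pi_eq_sum_univ' y]
    simp [w, dotProduct, map_sum, _root_.mul_comm]
  refine ⟨w, fun h => hx (by rw [← hw, h, zero_dotProduct]), fun b => ⟨(f x)⁻¹ * f ((φ (b ≫ iB) : Mat k N).mulVec x), ?_⟩⟩
  funext a
  have h1 : f (Pi.single a 1 - ((f x)⁻¹ * f (Pi.single a 1)) • x) = 0 := by
    rw [map_sub, map_smul, smul_eq_mul]; field_simp; ring
  have h2 := hf (φ (b ≫ iB)) ⟨b, rfl⟩ _ Submodule.mem_top h1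
  rw [Matrix.mulVec_sub, Matrix.mulVec_smul, map_sub, map_smul, sub_eq_zero, smul_eq_mul] at h2
  show Matrix.vecMul w (φ (b ≫ iB) : Mat k N) a = _
  rw [show Matrix.vecMul w (φ (b ≫ iB) : Mat k N) a = dotProduct (Matrix.vecMul w (φ (b ≫ iB) : Mat k N)) (Pi.single a 1) by simp,
    ← Matrix.dotProduct_mulVec, hw, h2, Pi.smul_apply, smul_eq_mul]
  ring

/-- The pairs of a line and a dual line. -/
def pairL {N : ℕ} (v w₀ : Vec k N) : Submodule k (Fin N ⊕ Fin N → k) :=
  LinearMap.range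
    ({ toFun := fun ab : k × k => Sum.elim (ab.1 • v) (ab.2 • w₀)
       map_add' := fun x y => funext fun i => by cases i <;> simp [add_smul]
       map_smul' := fun r x => funext fun i => by cases i <;> simp [mul_smul] } :
      k × k →ₗ[k] (Fin N ⊕ Fin N → k))

/-- A representation together with its contragredient. -/
def pairRep {N : ℕ} (φ : (𝟙_ (Over (Sk k)) ⟶ G) →* GLk k N) :
    (𝟙_ (Over (Sk k)) ⟶ G) →* Matrix (Fin N ⊕ Fin N) (Fin N ⊕ Fin N) k where
  toFun g := Matrix.fromBlocks (φ g : Mat k N) 0 0 (φ g⁻¹ : Mat k N).transpose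
  map_one' := by rw [inv_one, map_one, Units.val_one, Matrix.transpose_one, Matrix.fromBlocks_one]
  map_mul' g h := by simp [map_mul, mul_inv_rev, Matrix.transpose_mul, Matrix.fromBlocks_multiply]

omit [IsAlgClosed k] [IsAffine G.left] [Smooth G.hom] [ConnectedSpace G.left] in
theorem pairRep_elim {N : ℕ} (φ : (𝟙_ (Over (Sk k)) ⟶ G) →* GLk k N) (g : Pt G) (x w : Vec k N) :
    (pairRep φ g).mulVec (Sum.elim x w) =
      Sum.elim ((φ g : Mat k N).mulVec x) (Matrix.vecMul w (φ g⁻¹ : Mat k N)) := by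
  show (Matrix.fromBlocks _ 0 0 _).mulVec _ = _
  rw [Matrix.fromBlocks_mulVec]
  simp [Function.comp_def, Matrix.mulVec_transpose]

/-- **The cone of translated pairs is closed.** -/
theorem exists_of_inClo {B : Over (Sk k)} [GrpObj B] (iB : B ⟶ G) (hB : Red.IsBorelOver k iB)
    {N : ℕ} (φ : (𝟙_ (Over (Sk k)) ⟶ G) →* GLk k N) (F : Fin N → Fin N → Fn G)
    (hF : ∀ g p q, (φ g : Mat k N) p q = val g (F p q)) {v w₀ : Vec k N}
    (hv : ∀ b : Pt B, ∃ c : k, (φ (b ≫ iB) : Mat k N).mulVec v = c • v)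
    (hw : ∀ b : Pt B, ∃ c : k, Matrix.vecMul w₀ (φ (b ≫ iB) : Mat k N) = c • w₀)
    {x w : Vec k N} (h : InClo (pairRep φ) (pairL v w₀) (Sum.elim x w)) :
    ∃ (g : Pt G) (a b : k), x = a • (φ g : Mat k N).mulVec v ∧ w = b • Matrix.vecMul w₀ (φ g⁻¹ : Mat k N) := by
  classical
  haveI := hB.1; haveI := hB.2.1
  haveI : LocallyOfFiniteType G.hom := inferInstance
  haveI : QuasiCompact G.hom := inferInstance
  haveI : CompactSpace G.left := QuasiCompact.compactSpace_of_compactSpace G.hom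
  obtain ⟨X, qa, qo, hX, -, -⟩ := Groth.Agent.H19Quot.exists_isQuotient iB
  haveI := isProper_of_isBorelOver iB hB qa qo hX
  let F₂ : Fin N ⊕ Fin N → Fin N ⊕ Fin N → Fn G := fun p q =>
    Matrix.fromBlocks (Matrix.of F) 0 0 (Matrix.of fun a c => Fn.pull ι[G] (F c a)) p q
  have hF₂ : ∀ g p q, pairRep φ g p q = val g (F₂ p q) := fun g p q => by
    rcases p with p | p <;> rcases q with q | q
    · exact hF g p q
    · exact (map_zero (val g)).symm
    · exact (map_zero (val g)).symm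
    · show (φ g⁻¹ : Mat k N) q p = val g (Fn.pull ι[G] (F q p))
      rw [hF, val_pull, show g ≫ ι[G] = g⁻¹ from (Hom.inv_def g).symm]
  obtain ⟨g, hg⟩ := exists_mem_orbit (pairRep φ) (pairL v w₀) iB qa qo hX F₂ hF₂ (fun b y hy => by
    obtain ⟨⟨a₁, a₂⟩, rfl⟩ := hy
    obtain ⟨c₁, hc₁⟩ := hv b
    obtain ⟨c₂, hc₂⟩ := hw b⁻¹
    rw [GrpObj.inv_comp] at hc₂
    refine ⟨(a₁ * c₁, a₂ * c₂), ?_⟩
    show Sum.elim _ _ = (pairRep φ (b ≫ iB)).mulVec (Sum.elim (a₁ • v) (a₂ • w₀))
    rw [pairRep_elim, Matrix.mulVec_smul, Matrix.smul_vecMul, hc₁, hc₂, smul_smul, smul_smul]) h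
  obtain ⟨⟨a, b⟩, hab⟩ := hg
  have h2 := congrArg (pairRep φ g).mulVec hab
  rw [Matrix.mulVec_mulVec, ← map_mul, mul_inv_cancel, map_one, Matrix.one_mulVec] at h2
  change (pairRep φ g).mulVec (Sum.elim (a • v) (b • w₀)) = Sum.elim x w at h2
  rw [pairRep_elim] at h2
  refine ⟨g, a, b, ?_, ?_⟩
  · funext i
    have := congrFun h2 (Sum.inl i)
    simpa [Matrix.mulVec_smul] using this.symm
  · funext i
    have := congrFun h2 (Sum.inr i)
    simpa [Matrix.smul_vecMul] using this.symm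

omit [IsAlgClosed k] [IsAffine G.left] [Smooth G.hom] [ConnectedSpace G.left] in
/-- The basic members of the cone of pairs. -/
theorem inClo_pair {N : ℕ} (φ : (𝟙_ (Over (Sk k)) ⟶ G) →* GLk k N) (v w₀ : Vec k N) (g : Pt G) (a b : k) :
    InClo (pairRep φ) (pairL v w₀)
      (Sum.elim (a • (φ g : Mat k N).mulVec v) (b • Matrix.vecMul w₀ (φ g⁻¹ : Mat k N))) := by
  have h := inClo_self (pairRep φ) (pairL v w₀) g (w := Sum.elim (a • v) (b • w₀)) ⟨(a, b), rfl⟩
  rwa [pairRep_elim, Matrix.mulVec_smul, Matrix.smul_vecMul] at h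

omit [IsAffine G.left] [Smooth G.hom] [ConnectedSpace G.left] in
/-- Moving a member by the group and scalars. -/
theorem inClo_smul_move {N : ℕ} (φ : (𝟙_ (Over (Sk k)) ⟶ G) →* GLk k N) {v w₀ x w : Vec k N}
    (hx : InClo (pairRep φ) (pairL v w₀) (Sum.elim x w)) (h : Pt G) (c : k) :
    InClo (pairRep φ) (pairL v w₀)
      (Sum.elim (c • (φ h : Mat k N).mulVec x) (c • Matrix.vecMul w (φ h⁻¹ : Mat k N))) := by
  have h1 := inClo_move (pairRep φ) (pairL v w₀) h c hx
  rw [pairRep_elim] at h1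
  have e : Sum.elim (c • (φ h : Mat k N).mulVec x) (c • Matrix.vecMul w (φ h⁻¹ : Mat k N)) =
      c • Sum.elim ((φ h : Mat k N).mulVec x) (Matrix.vecMul w (φ h⁻¹ : Mat k N)) := by
    funext i; cases i <;> simp
  rwa [e]

omit [IsAffine G.left] [Smooth G.hom] [ConnectedSpace G.left] in
/-- Limits in the cone of pairs along monomial curves. -/
theorem inClo_limit {N : ℕ} (φ : (𝟙_ (Over (Sk k)) ⟶ G) →* GLk k N) (v w₀ : Vec k N) (s : Finset ℤ)
    (d : ℤ → ℕ) (x w : ℤ → Vec k N) (m : ℤ) (hm : m ∈ s) (hd0 : d m = 0) (hd : ∀ i ∈ s, i ≠ m → d i ≠ 0)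
    (h : ∀ u : kˣ, InClo (pairRep φ) (pairL v w₀)
      (Sum.elim (∑ i ∈ s, (u : k) ^ d i • x i) (∑ i ∈ s, (u : k) ^ d i • w i))) :
    InClo (pairRep φ) (pairL v w₀) (Sum.elim (x m) (w m)) := by
  classical
  intro p hp
  have e : ∀ c : ℤ → k, Sum.elim (∑ i ∈ s, c i • x i) (∑ i ∈ s, c i • w i) =
      ∑ i ∈ s, c i • Sum.elim (x i) (w i) := fun c => by
    funext l; cases l <;> simp [Finset.sum_apply]
  have h0 := eval_curve_zero s d (fun i => Sum.elim (x i) (w i)) p fun t ht => by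
    rw [← e]
    exact h (Units.mk0 t ht) p hp
  rwa [Finset.sum_eq_single_of_mem m hm fun i hi hne => by rw [zero_pow (hd i hi hne), zero_smul],
    hd0, pow_zero, one_smul] at h0

end H21Chev
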