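import Groth.Agent.H21Diag.Chev.Radical
import Groth.Agent.H20Borel.CartanChar

/-!
# A maximal torus of a reductive group over an algebraically closed field is its own centralizer
-/

set_option autoImplicit false
set_option linter.style.haveILetI false
set_option backward.isDefEq.respectTransparency false
set_option maxHeartbeats 1000000
set_option synthInstance.maxHeartbeats 400000

universe u

open CategoryTheory CategoryTheory.Limits MonoidalCategory CartesianMonoidalCategory MonObj AlgebraicGeometry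
open Groth.Agent.H27Witt H20Mu H20Conj H20Borel HopfRep WithConv
open scoped TensorProduct

noncomputable section

namespace H21Chev

variable {k : Type u} [Field k] [IsAlgClosed k]

local notation "Pt" X => 𝟙_ (Over (Sk k)) ⟶ X

/-- The group-like element of a character. -/
theorem exists_groupLike_of_char {C : Over (Sk k)} [GrpObj C] [IsAffine C.left] [Smooth C.hom] [ConnectedSpace C.left]
    {A : Type u} [CommRing A] [HopfAlgebra k A] (eC : C ≅ CoactBr.sp k A) [IsMonHom eC.hom]
    (χ : C ⟶ Red.Gm (Sk k)) [IsMonHom χ] :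
    ∃ c : A, IsGroupLikeElem k c ∧ Fn.pull eC.hom (Fn.specAlg (k := k) A c) = chFn χ := by
  classical
  obtain ⟨hft, hdom⟩ := model_props eC
  haveI := hft; haveI := hdom
  haveI : IsMonHom eC.inv := isMonHom_iso_inv eC
  obtain ⟨θ, hθ⟩ := exists_ptsEquiv (k := k) (A := A)
  obtain ⟨c, hc⟩ : ∃ c : A, Fn.pull eC.hom (Fn.specAlg (k := k) A c) = (chFn χ) := by
    obtain ⟨a, ha⟩ := pull_surj_of_iso eC (chFn χ)
    obtain ⟨c, rfl⟩ := (Fn.specAlg (k := k) A).surjective a
    exact ⟨c, ha⟩
  refine ⟨c, ?_, hc⟩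
  have hval : ∀ z : WithConv (A →ₐ[k] k), z.ofConv c = (par ((θ.symm z ≫ eC.inv) ≫ χ) : k) := by
    intro z
    obtain ⟨x, rfl⟩ := θ.surjective z
    rw [MulEquiv.symm_apply_apply, hθ, par_eq, GmPts.unitOfPt_comp]
    show _ = gamma k ((x ≫ eC.inv).left.appTop.hom (chFn χ))
    show _ = val (x ≫ eC.inv) (chFn χ)
    rw [← hc, val_pull, Category.assoc, eC.inv_hom_id, Category.comp_id]
  have hmul : ∀ z w : WithConv (A →ₐ[k] k), (z * w).ofConv c = z.ofConv c * w.ofConv c := by
    intro z w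
    rw [hval, hval, hval, map_mul, MonObj.mul_comp, MonObj.mul_comp, par_mul, Units.val_mul]
  refine ⟨?_, ?_⟩
  · have h1 := hval 1
    rw [map_one, MonObj.one_comp, MonObj.one_comp, par_one, Units.val_one, AlgHom.convOne_def] at h1
    simpa using h1
  · refine sub_eq_zero.1 (Groth.Agent.H20Hopf.Rosenlicht.tensor_ext (k := k) fun g => ?_)
    refine Groth.Agent.H20Hopf.Rosenlicht.point_ext (k := k) fun g' => ?_
    have key : ∀ z : A ⊗[k] A, g' (TensorProduct.lid k A (g.toLinearMap.rTensor A z)) =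
        Algebra.TensorProduct.lift g g' (fun _ _ => Commute.all _ _) z := fun z => by
      induction z using TensorProduct.induction_on with
      | zero => simp
      | tmul p q => simp
      | add p q hp hq => simp only [map_add, hp, hq]
    rw [key, map_sub, Algebra.TensorProduct.lift_tmul, sub_eq_zero]
    have h2 := hmul (toConv g) (toConv g')
    rw [AlgHom.convMul_apply] at h2
    exact h2

/-- **Characters of a diagonalisable closed subgroup of a connected solvable group extend.** -/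
theorem exists_char_extend {C S : Over (Sk k)} [GrpObj C] [GrpObj S] [IsAffine C.left] [Smooth C.hom]
    [ConnectedSpace C.left] (hsol : Group.IsSolvable (Pt C)) (hS : Red.IsTorus S) (js : S ⟶ C) [IsMonHom js]
    [Mono js] (ψ : S ⟶ Red.Gm (Sk k)) [IsMonHom ψ] :
    ∃ χ : C ⟶ Red.Gm (Sk k), IsMonHom χ ∧ js ≫ χ = ψ := by
  haveI : LocallyOfFiniteType C.hom := inferInstance
  obtain ⟨hSa, hSs, hSc⟩ := torus_props S hS
  haveI := hSa; haveI := hSs; haveI := hSc
  haveI hci := isClosedImmersion_torus js hS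
  obtain ⟨A, _, _, eC, heC, heC'⟩ := exists_model C
  obtain ⟨B, _, _, eS, heS, hdiag⟩ := isDiagGrp_of_isTorus hS
  haveI := heC; haveI := heC'; haveI := heS
  haveI := isMonHom_iso_inv eS
  haveI : IsMonHom (eS.inv ≫ js ≫ eC.hom) := inferInstance
  obtain ⟨p, hp⟩ := exists_bialg (eS.inv ≫ js ≫ eC.hom)
  haveI : IsIso eS.inv.left := inferInstanceAs (IsIso ((Over.forget _).map eS.inv))
  haveI : IsIso eC.hom.left := inferInstanceAs (IsIso ((Over.forget _).map eC.hom))
  haveI : IsClosedImmersion (CoactBr.pt (p : A →ₐ[k] B)).left := by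
    rw [hp, Over.comp_left, Over.comp_left]; infer_instance
  obtain ⟨gl, hgl, hgl'⟩ := exists_groupLike_of_char eS ψ
  obtain ⟨g, hg, hpg⟩ := exists_groupLike_lift (isTrigonalizable_model eC hsol) hdiag p
    (surjective_of_isClosedImmersion (p : A →ₐ[k] B)) hgl
  obtain ⟨χ, hχ, hval⟩ := exists_char eC.hom hg
  refine ⟨χ, hχ, ?_⟩
  have h1 : chFn (js ≫ χ) = chFn ψ := by
    rw [chFn_comp, hval, Fn.pull_pull, show js ≫ eC.hom = eS.hom ≫ CoactBr.pt (p : A →ₐ[k] B) by
      rw [hp, eS.hom_inv_id_assoc], ← Fn.pull_pull, pull_pt, show (p : A →ₐ[k] B) g = gl from hpg, hgl']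
  exact gm_pt_ext h1

variable {G : Over (Sk k)} [GrpObj G] [IsAffine G.left] [Smooth G.hom] [ConnectedSpace G.left]

/-- No smooth connected normal subgroup without subtorus. -/
def NoUnipotentNormal (G : Over (Sk k)) [GrpObj G] : Prop :=
  ∀ (U : Over (Sk k)) [GrpObj U] (i : U ⟶ G) [IsMonHom i],
    IsClosedImmersion i.left → Smooth U.hom → ConnectedSpace U.left → AlgGrp.IsNormalHom i →
    Red.HasNoSubtorus k U → IsIso U.hom

/-- Homomorphisms to a commutative group agreeing on a detecting morphism are equal. -/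
theorem hom_ext_of_detect {V : Type*} [Category V] [CartesianMonoidalCategory V] {T C D : V} [GrpObj C] [GrpObj D]
    (tC : T ⟶ C) (hcomm : ∀ {P : V} (a b : P ⟶ D), a * b = b * a)
    (hdet : ∀ χ : C ⟶ D, IsMonHom χ → tC ≫ χ = 1 → χ = 1) (χ₁ χ₂ : C ⟶ D) [IsMonHom χ₁] [IsMonHom χ₂]
    (h : tC ≫ χ₁ = tC ≫ χ₂) : χ₁ = χ₂ := by
  haveI : IsMonHom (χ₁ * χ₂⁻¹) :=
    Groth.Agent.H21Diag.isMonHom_of_mul _ fun {P} a b => by
      letI : CommGroup (P ⟶ D) := { (inferInstance : Group (P ⟶ D)) with mul_comm := hcomm }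
      rw [MonObj.comp_mul, MonObj.comp_mul, MonObj.comp_mul, GrpObj.comp_inv, GrpObj.comp_inv, GrpObj.comp_inv,
        MonObj.mul_comp, MonObj.mul_comp, mul_inv, _root_.mul_mul_mul_comm]
  exact mul_inv_eq_one.mp (hdet _ inferInstance (by rw [MonObj.comp_mul, GrpObj.comp_inv, h, mul_inv_cancel]))

/-- **Characters of a Cartan subgroup which agree on the torus are equal.** -/
theorem char_ext_of_centralizer {T C : Over (Sk k)} [GrpObj T] [GrpObj C] {iT : T ⟶ G} (hT : AGF.IsMaxTorus iT)
    (c : C ⟶ G) (hc : Red.IsCentralizerOf iT c) (tC : T ⟶ C) (htC : tC ≫ c = iT) (χ₁ χ₂ : C ⟶ Red.Gm (Sk k))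
    [IsMonHom χ₁] [IsMonHom χ₂] (h : tC ≫ χ₁ = tC ≫ χ₂) : χ₁ = χ₂ := by
  refine @hom_ext_of_detect (Over (Sk k)) _ _ T C (Red.Gm (Sk k)) _ (Red.grpObj_bc _ _) tC ?_ ?_ χ₁ χ₂ _ _ h
  · intro P a b
    exact gm_comm a b
  · intro χ hχ h'
    exact @char_eq_one_of_centralizer k _ _ G T _ _ _ _ _ iT hT C _ c hc tC htC χ hχ h'

set_option maxHeartbeats 4000000 in
/-- **The points of the centralizer of a maximal torus are in the torus**, if there is no unipotent radical. -/
theorem exists_torus_point_of_centralizer (hR : NoUnipotentNormal G)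
    {T C : Over (Sk k)} [GrpObj T] [GrpObj C] {iT : T ⟶ G} (hT : AGF.IsMaxTorus iT) (c : C ⟶ G)
    (hc : Red.IsCentralizerOf iT c) (tC : T ⟶ C) (htC : tC ≫ c = iT) :
    ∃ ρ : C ⟶ T, ρ ≫ tC = 𝟙 C := by
  classical
  haveI := hT.1; haveI := hT.2.1
  obtain ⟨hci, hCs, hCa, hCc⟩ := centralizer_props iT hT.2.2.1 c hc
  haveI := hci; haveI := hCs; haveI := hCa; haveI := hCc; haveI := hc.1; haveI := hc.2.1
  haveI hsolC := isSolvable_cartan hT c hc
  haveI := Fn.isDomain C
  haveI : LocallyOfFiniteType C.hom := inferInstance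
  haveI : IsMonHom tC := by
    haveI : IsMonHom (tC ≫ c) := by rw [htC]; infer_instance
    exact Groth.Agent.H21Diag.isMonHom_of_comp_mono tC c
  haveI : Mono tC := by
    haveI : Mono (tC ≫ c) := by rw [htC]; infer_instance
    exact mono_of_mono tC c
  -- the retraction
  obtain ⟨hTa, hTs, -⟩ := torus_props T hT.2.2.1
  haveI := hTa; haveI := hTs
  obtain ⟨r, e, co, he, hco, hprod, hcomm⟩ := exists_cochars T hT.2.2.1
  choose χ hχ hext using fun l => haveI := hco l; exists_char_extend hsolC hT.2.2.1 tC (co l)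
  let ρ : C ⟶ T := (List.ofFn fun l => χ l ≫ e l).prod
  have hρcomp : ∀ {P : Over (Sk k)} (a : P ⟶ C), a ≫ ρ = (List.ofFn fun l => (a ≫ χ l) ≫ e l).prod := fun a => by
    let φ : (C ⟶ T) →* (_ ⟶ T) :=
      { toFun := fun m => a ≫ m, map_one' := MonObj.comp_one a, map_mul' := MonObj.comp_mul a }
    show φ ρ = _
    rw [map_list_prod, List.map_ofFn]
    simp [φ, Function.comp_def]
  have hprod' : ∀ {M : Type u} [CommMonoid M] (m : ℕ) (p q : Fin m → M),
      (List.ofFn fun i => p i * q i).prod = (List.ofFn p).prod * (List.ofFn q).prod := by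
    intro M _ m p q
    simp [List.prod_ofFn, Finset.prod_mul_distrib]
  have hρmul : ∀ {P : Over (Sk k)} (a b : P ⟶ C), (a * b) ≫ ρ = (a ≫ ρ) * (b ≫ ρ) := fun {P} a b => by
    letI : CommMonoid (P ⟶ T) := { (inferInstance : Monoid (P ⟶ T)) with mul_comm := hcomm }
    rw [hρcomp, hρcomp, hρcomp, ← hprod']
    refine congrArg List.prod (congrArg List.ofFn (funext fun l => ?_))
    haveI := hχ l; haveI := he l
    rw [MonObj.mul_comp, MonObj.mul_comp]
  have hρtC : tC ≫ ρ = 𝟙 T := by
    rw [hρcomp, ← hprod]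
    exact congrArg List.prod (congrArg List.ofFn (funext fun l => by rw [hext]))
  haveI : IsMonHom ρ := Groth.Agent.H21Diag.isMonHom_of_mul ρ hρmul
  -- the kernel
  let K : Subgroup (Pt C) := MonoidHom.ker (postHom ρ)
  let q : C ⟶ C := 𝟙 C * (ρ ≫ tC)⁻¹
  have hq : ∀ x : Pt C, x ≫ q = x * ((x ≫ ρ) ≫ tC)⁻¹ := fun x => by
    rw [MonObj.comp_mul, GrpObj.comp_inv, Category.comp_id, Category.assoc]
  have hqK : ∀ x : Pt C, x ≫ q ∈ K := fun x => MonoidHom.mem_ker.mpr (by
    show (x ≫ q) ≫ ρ = 1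
    rw [hq, MonObj.mul_comp, GrpObj.inv_comp, Category.assoc _ tC, hρtC, Category.comp_id, mul_inv_cancel])
  have hKq : ∀ x ∈ K, x ≫ q = x := fun x hx => by
    rw [hq, show x ≫ ρ = 1 from MonoidHom.mem_ker.mp hx, MonObj.one_comp, inv_one, _root_.mul_one]
  have hKp : (vanish (K : Set (Pt C))).IsPrime := by
    convert RingHom.ker_isPrime (Fn.pull q : Fn C →ₐ[k] Fn C)
    ext a
    rw [mem_vanish, RingHom.mem_ker]
    refine ⟨fun h => Fn.ext_points fun x => ?_, fun h x hx => ?_⟩
    · show val x (Fn.pull q a) = val x 0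
      rw [val_pull, map_zero]
      exact h _ (hqK x)
    · rw [← hKq x hx, ← val_pull, h, map_zero]
  have hcloK : ∀ x ∈ clo K, x ∈ K := fun x hx => by
    refine MonoidHom.mem_ker.mpr (Fn.point_ext (k := k) (AlgHom.ext fun a => ?_))
    show val (x ≫ ρ) a = val (1 : Pt T) a
    rw [← val_pull]
    have h := mem_clo.mp hx (Fn.pull ρ a - algebraMap k (Fn C) (val (1 : Pt T) a)) (mem_vanish.mpr fun y hy => by
      rw [map_sub, val_pull, show y ≫ ρ = 1 from MonoidHom.mem_ker.mp hy, AlgHom.commutes, Algebra.algebraMap_self,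
        RingHom.id_apply, sub_self])
    rwa [map_sub, AlgHom.commutes, Algebra.algebraMap_self, RingHom.id_apply, sub_eq_zero] at h
  obtain ⟨N, gN, i, him, hici, hNa, hNs, hNc, -, hNpts, hlift⟩ := exists_subgroup_scheme K hKp
    (Group.isSolvable_of_isSolvable_injective (f := (clo K).subtype) Subtype.val_injective)
  letI := gN; haveI := him; haveI := hici; haveI := hNa; haveI := hNs; haveI := hNc
  haveI : Mono i := Over.mono_of_mono_left _
  haveI : LocallyOfFiniteType N.hom := inferInstance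
  have hiρ : i ≫ ρ = 1 := hom_ext_pts fun y => by
    rw [MonObj.comp_one, ← Category.assoc]
    exact MonoidHom.mem_ker.mp (hcloK _ (hNpts y))
  have hNns : Red.HasNoSubtorus k N := by
    intro S gS js hjs hm hS
    haveI := hjs; haveI := hm
    obtain ⟨hSa, hSs, -⟩ := torus_props S hS
    haveI := hSa; haveI := hSs
    obtain ⟨r', e', co', he', hco', hprod'', -⟩ := exists_cochars S hS
    have hkill : ∀ l, co' l = 1 := fun l => by
      haveI := hco' l
      obtain ⟨X, hX, hXψ⟩ := exists_char_extend hsolC hS (js ≫ i) (co' l)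
      haveI := hX
      have hXT : X = ρ ≫ tC ≫ X := by
        haveI : IsMonHom (ρ ≫ tC ≫ X) := inferInstance
        exact char_ext_of_centralizer hT c hc tC htC X (ρ ≫ tC ≫ X) (by
          rw [← Category.assoc tC ρ, hρtC, Category.id_comp])
      rw [← hXψ, hXT, Category.assoc js, ← Category.assoc i ρ, hiρ, MonObj.one_comp, MonObj.comp_one]
    have hid : 𝟙 S = 1 := by
      rw [← hprod'']
      refine List.prod_eq_one fun x hx => ?_
      obtain ⟨l, rfl⟩ := List.mem_ofFn.mp hx
      haveI := he' l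
      rw [hkill, MonObj.one_comp]
    haveI : IsIso (toUnit S) := ⟨(1 : Pt S), by rw [MonObj.comp_one, ← hid], toUnit_unique _ _⟩
    have hsh : (toUnit S).left = S.hom := by
      have := Over.w (toUnit S)
      rwa [show (𝟙_ (Over (Sk k))).hom = 𝟙 _ from rfl, Category.comp_id] at this
    show IsIso S.hom
    rw [← hsh]
    exact ((Over.forget _).mapIso (asIso (toUnit S))).isIso_hom
  obtain ⟨W, gW, iW, hWm, hWci, hWs, hWc, hWns, hWn, -, f, hf⟩ := exists_normal_of_forall iT hT hNns (i ≫ c)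
    fun B _ iB t hB ht h => by
      obtain ⟨f, hf⟩ := exists_cartan_factor iT hT c hc iB hB t ht
      exact ⟨(h ≫ i) ≫ f, by rw [Category.assoc, hf, Category.assoc]⟩
  letI := gW; haveI := hWm; haveI := hWc
  haveI : IsIso W.hom := hR W iW hWci hWs hWc hWn hWns
  haveI : Mono W.hom := inferInstance
  have hi1 : i = 1 := by
    rw [← cancel_mono c, MonObj.one_comp, ← hf, Over.OverMorphism.ext ((cancel_mono W.hom).mp
      (by rw [Over.w, Over.w]) : f.left = (1 : N ⟶ W).left), MonObj.one_comp]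
  haveI : AlgebraicGeometry.IsReduced C.left := Groth.Agent.H13AlgSp.isReduced_of_smooth_mor C.hom
  refine ⟨ρ, hom_ext_pts fun x => ?_⟩
  rw [Category.comp_id, ← Category.assoc]
  obtain ⟨q', hq'⟩ := hlift q fun y => fun a ha => mem_vanish.mp ha _ (hqK y)
  have h1 : x ≫ q = 1 := by rw [← hq', hi1, MonObj.comp_one, MonObj.comp_one]
  rw [hq, mul_inv_eq_one] at h1
  exact h1.symm

/-- **A maximal torus of a reductive group is its own centralizer.** -/
theorem isCentralizerOf_self (hR : NoUnipotentNormal G)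
    {T : Over (Sk k)} [GrpObj T] {iT : T ⟶ G} (hT : AGF.IsMaxTorus iT) : Red.IsCentralizerOf iT iT := by
  haveI := hT.1; haveI := hT.2.1
  haveI : LocallyOfFiniteType G.hom := inferInstance
  haveI : LocallyOfFinitePresentation G.hom := inferInstance
  haveI : QuasiCompact G.hom := inferInstance
  haveI : QuasiSeparated G.hom := inferInstance
  haveI := isClosedImmersion_torus iT hT.2.2.1
  obtain ⟨C, gC, c, hc, -, -⟩ := (Groth.Agent.S3006.result (Sk k) G T iT inferInstance hT.2.2.1).1
  letI := gC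
  obtain ⟨tC, htC⟩ := exists_torus_to_centralizer hT.2.2.1 c hc
  obtain ⟨ρ, hρ⟩ := exists_torus_point_of_centralizer hR hT c hc tC htC
  refine ⟨hT.1, hT.2.1, fun X g => (Iff.trans ?_ (hc.2.2 X g))⟩
  constructor
  · rintro ⟨z, rfl⟩
    exact ⟨z ≫ tC, by rw [Category.assoc, htC]⟩
  · rintro ⟨z, rfl⟩
    exact ⟨z ≫ ρ, by rw [← htC, Category.assoc, ← Category.assoc ρ, hρ, Category.id_comp]⟩

end H21Chev
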