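import Groth.Agent.H21Diag.Chev.Rep

/-!
# Extreme weight vectors of a torus in the cone of pairs
-/

set_option autoImplicit false
set_option linter.style.haveILetI false
set_option backward.isDefEq.respectTransparency false
set_option maxHeartbeats 1000000
set_option synthInstance.maxHeartbeats 100000

universe u

open CategoryTheory CategoryTheory.Limits MonoidalCategory CartesianMonoidalCategory MonObj AlgebraicGeometry
open Groth.Agent.H27Witt H20Mu H20Conj H20Borel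

noncomputable section

namespace H21Chev

variable {k : Type u} [Field k] [IsAlgClosed k]

local notation "Pt" X => 𝟙_ (Over (Sk k)) ⟶ X

variable {G : Over (Sk k)} [GrpObj G] {N : ℕ}

/-- The closed cone of pairs. -/
def PairCl (φ : (𝟙_ (Over (Sk k)) ⟶ G) →* GLk k N) (v w₀ x w : Vec k N) : Prop :=
  InClo (pairRep φ) (pairL v w₀) (Sum.elim x w)

omit [IsAlgClosed k] in
/-- The weight projections are idempotent. -/
theorem weight_idem [Infinite k] {s : Finset ℤ} {P : ℤ → Mat k N} {e : kˣ →* GLk k N}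
    (hP : ∀ t : kˣ, (e t : Mat k N) = ∑ i ∈ s, ((t ^ i : kˣ) : k) • P i)
    (hPe : ∀ t : kˣ, ∀ i ∈ s, (e t : Mat k N) * P i = ((t ^ i : kˣ) : k) • P i) {i : ℤ} (hi : i ∈ s) :
    P i * P i = P i := by
  classical
  have h := laurent_zero_mat (s := s) (M := fun j => P j * P i - if j = i then P i else 0) (fun t => by
    simp only [smul_sub, Finset.sum_sub_distrib, smul_ite, smul_zero, Finset.sum_ite_eq', hi, if_true,
      ← Matrix.smul_mul, ← Finset.sum_mul, ← hP, hPe t i hi, sub_self]) i hi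
  simpa [sub_eq_zero] using h

/-- The sum decomposition of a one-parameter group on vectors. -/
theorem mulVec_weights {s : Finset ℤ} {P : ℤ → Mat k N} {e : kˣ →* GLk k N}
    (hP : ∀ t : kˣ, (e t : Mat k N) = ∑ i ∈ s, ((t ^ i : kˣ) : k) • P i) (t : kˣ) (x : Vec k N) :
    (e t : Mat k N).mulVec x = ∑ i ∈ s, ((t ^ i : kˣ) : k) • (P i).mulVec x := by
  rw [hP, Matrix.sum_mulVec]
  exact Finset.sum_congr rfl fun i _ => Matrix.smul_mulVec _ _ _

/-- The same on rows. -/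
theorem vecMul_weights {s : Finset ℤ} {P : ℤ → Mat k N} {e : kˣ →* GLk k N}
    (hP : ∀ t : kˣ, (e t : Mat k N) = ∑ i ∈ s, ((t ^ i : kˣ) : k) • P i) (t : kˣ) (w : Vec k N) :
    Matrix.vecMul w (e t : Mat k N) = ∑ i ∈ s, ((t ^ i : kˣ) : k) • Matrix.vecMul w (P i) := by
  rw [hP, Matrix.vecMul_sum]
  exact Finset.sum_congr rfl fun i _ => Matrix.vecMul_smul _ _ _

/-- Collecting a scalar into the exponent. -/
theorem zpow_shift (u : kˣ) (a b : ℤ) (d : ℕ) (h : (d : ℤ) = a + b) :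
    ((u ^ a : kˣ) : k) * ((u ^ b : kˣ) : k) = (u : k) ^ d := by
  rw [← Units.val_mul, ← _root_.zpow_add, ← h, zpow_natCast, Units.val_pow_eq_pow_val]

variable (φ : (𝟙_ (Over (Sk k)) ⟶ G) →* GLk k N) (v w₀ : Vec k N) {r : ℕ} (e : Fin r → kˣ →* (𝟙_ (Over (Sk k)) ⟶ G))

set_option maxHeartbeats 4000000 in
/-- **The projection on a highest weight space.** -/
theorem exists_top_projection (hlau : ∀ j, IsLaurent (φ.comp (e j)))
    (hcomm : ∀ i j s t, Commute (φ (e i s) : Mat k N) (φ (e j t)))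
    (hspan : Submodule.span k (Set.range fun g : Pt G => (φ g : Mat k N).mulVec v) = ⊤) (hv : v ≠ 0) :
    ∃ Q : Mat k N, Q * Q = Q ∧ Q ≠ 0 ∧ (∀ j t, Commute (φ (e j t) : Mat k N) Q) ∧
      (∀ g : Pt G, PairCl φ v w₀ (Q.mulVec ((φ g : Mat k N).mulVec v)) 0) ∧
      (∀ g : Pt G, PairCl φ v w₀ 0 (Matrix.vecMul (Matrix.vecMul w₀ (φ g⁻¹ : Mat k N)) Q)) ∧
      ∀ j, ∃ m : ℤ, ∀ t : kˣ, (φ (e j t) : Mat k N) * Q = ((t ^ m : kˣ) : k) • Q := by
  classical
  suffices h : ∀ S : Finset (Fin r), ∃ Q : Mat k N, Q * Q = Q ∧ Q ≠ 0 ∧ (∀ j t, Commute (φ (e j t) : Mat k N) Q) ∧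
      (∀ g : Pt G, PairCl φ v w₀ (Q.mulVec ((φ g : Mat k N).mulVec v)) 0) ∧
      (∀ g : Pt G, PairCl φ v w₀ 0 (Matrix.vecMul (Matrix.vecMul w₀ (φ g⁻¹ : Mat k N)) Q)) ∧
      ∀ j ∈ S, ∃ m : ℤ, ∀ t : kˣ, (φ (e j t) : Mat k N) * Q = ((t ^ m : kˣ) : k) • Q by
    obtain ⟨Q, h1, h2, h3, h4, h5, h6⟩ := h Finset.univ
    exact ⟨Q, h1, h2, h3, h4, h5, fun j => h6 j (Finset.mem_univ j)⟩
  intro S
  induction S using Finset.induction with
  | empty =>
    refine ⟨1, _root_.mul_one 1, fun h => hv ?_, fun j t => Commute.one_right _, fun g => ?_, fun g => ?_, by simp⟩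
    · rw [← Matrix.one_mulVec v, h, Matrix.zero_mulVec]
    · have := inClo_pair φ v w₀ g 1 0
      rwa [one_smul, zero_smul, ← Matrix.one_mulVec ((φ g : Mat k N).mulVec v)] at this
    · have := inClo_pair φ v w₀ g 0 1
      rwa [one_smul, zero_smul, ← Matrix.vecMul_one (Matrix.vecMul w₀ (φ g⁻¹ : Mat k N))] at this
  | insert j S hj ih =>
    obtain ⟨Q, hQQ, hQ0, hQc, hQx, hQw, hQS⟩ := ih
    obtain ⟨s, P, hP, hP1, hPe, hPc⟩ := exists_weights (hlau j)
    have hPQ : ∀ i ∈ s, Commute Q (P i) := fun i hi => hPc Q (fun t => (hQc j t).symm) i hi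
    let S₀ := s.filter fun i => P i * Q ≠ 0
    have hne : S₀.Nonempty := by
      by_contra hcon
      rw [Finset.not_nonempty_iff_eq_empty, Finset.filter_eq_empty_iff] at hcon
      refine hQ0 ?_
      rw [← _root_.one_mul Q, ← hP1, Finset.sum_mul]
      exact Finset.sum_eq_zero fun i hi => not_not.mp (hcon hi)
    obtain ⟨m, hm, hmax⟩ : ∃ m ∈ S₀, ∀ i ∈ S₀, i ≤ m :=
      ⟨S₀.max' hne, S₀.max'_mem hne, fun i hi => S₀.le_max' i hi⟩
    obtain ⟨hms, hmQ⟩ := Finset.mem_filter.mp hm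
    let d : ℤ → ℕ := fun i => (m - i).toNat
    have hd : ∀ i ∈ S₀, (d i : ℤ) = m - i := fun i hi => Int.toNat_of_nonneg (by have := hmax i hi; omega)
    have hd' : ∀ i ∈ S₀, i ≠ m → d i ≠ 0 := fun i hi hne' h0 => hne' (by
      have := hd i hi; rw [h0] at this; omega)
    refine ⟨P m * Q, ?_, hmQ, fun i t => ?_, fun g => ?_, fun g => ?_, fun i hi => ?_⟩
    · rw [_root_.mul_assoc, ← _root_.mul_assoc Q, (hPQ m hms).eq, _root_.mul_assoc, hQQ, ← _root_.mul_assoc,
        weight_idem hP hPe hms]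
    · exact (hPc _ (fun u => hcomm i j t u) m hms).mul_right (hQc i t)
    · have key : ∀ u : kˣ, InClo (pairRep φ) (pairL v w₀)
          (Sum.elim (∑ i ∈ S₀, (u : k) ^ d i • (P i * Q).mulVec ((φ g : Mat k N).mulVec v))
            (∑ i ∈ S₀, (u : k) ^ d i • (0 : Vec k N))) := by
        intro u
        have h := inClo_smul_move φ (hQx g) (e j u⁻¹) ((u ^ m : kˣ) : k)
        rw [Matrix.zero_vecMul, smul_zero] at h
        convert h using 2
        · rw [show (φ (e j u⁻¹) : Mat k N) = ((φ.comp (e j)) u⁻¹ : GLk k N) from rfl, mulVec_weights hP, Finset.smul_sum]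
          refine (Finset.sum_congr rfl fun i hi => ?_).trans (Finset.sum_subset (Finset.filter_subset _ _) fun i hi hi' => ?_)
          · rw [smul_smul, inv_zpow', zpow_shift u m (-i) (d i) (by rw [hd i hi]; ring), ← Matrix.mulVec_mulVec _ (P i) Q]
          · rw [Matrix.mulVec_mulVec _ (P i) Q, not_not.mp fun h0 => hi' (Finset.mem_filter.mpr ⟨hi, h0⟩), Matrix.zero_mulVec,
              smul_zero, smul_zero]
        · simp
      have := inClo_limit φ v w₀ S₀ d (fun i => (P i * Q).mulVec ((φ g : Mat k N).mulVec v)) (fun _ => 0) m hm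
        (by simp [d]) hd' key
      exact this
    · have key : ∀ u : kˣ, InClo (pairRep φ) (pairL v w₀)
          (Sum.elim (∑ i ∈ S₀, (u : k) ^ d i • (0 : Vec k N))
            (∑ i ∈ S₀, (u : k) ^ d i • Matrix.vecMul (Matrix.vecMul w₀ (φ g⁻¹ : Mat k N)) (P i * Q))) := by
        intro u
        have h := inClo_smul_move φ (hQw g) (e j u) ((u ^ m : kˣ) : k)
        rw [Matrix.mulVec_zero, smul_zero, ← map_inv (e j) u] at h
        convert h using 2
        · simp
        · rw [show (φ (e j u⁻¹) : Mat k N) = ((φ.comp (e j)) u⁻¹ : GLk k N) from rfl, vecMul_weights hP, Finset.smul_sum]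
          refine (Finset.sum_congr rfl fun i hi => ?_).trans (Finset.sum_subset (Finset.filter_subset _ _) fun i hi hi' => ?_)
          · rw [smul_smul, inv_zpow', zpow_shift u m (-i) (d i) (by rw [hd i hi]; ring), Matrix.vecMul_vecMul _ Q,
              (hPQ i (Finset.filter_subset _ _ hi)).eq]
          · rw [Matrix.vecMul_vecMul _ Q, (hPQ i hi).eq, not_not.mp fun h0 => hi' (Finset.mem_filter.mpr ⟨hi, h0⟩),
              Matrix.vecMul_zero, smul_zero, smul_zero]
      exact inClo_limit φ v w₀ S₀ d (fun _ => 0) (fun i => Matrix.vecMul (Matrix.vecMul w₀ (φ g⁻¹ : Mat k N)) (P i * Q))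
        m hm (by simp [d]) hd' key
    · rcases Finset.mem_insert.mp hi with rfl | hi'
      · exact ⟨m, fun t => by
          rw [← _root_.mul_assoc, show (φ (e i t) : Mat k N) = ((φ.comp (e i)) t : GLk k N) from rfl, hPe t m hms,
            Matrix.smul_mul]⟩
      · obtain ⟨m', hm'⟩ := hQS i hi'
        exact ⟨m', fun t => by
          rw [← _root_.mul_assoc, (hPc _ (fun u => hcomm i j t u) m hms).eq, _root_.mul_assoc, hm', Matrix.mul_smul]⟩

/-- The stabiliser of the line of a vector, on rational points. -/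
def eigSub (x : Vec k N) : Subgroup (𝟙_ (Over (Sk k)) ⟶ G) where
  carrier := {h | ∃ c : kˣ, (φ h : Mat k N).mulVec x = (c : k) • x}
  one_mem' := ⟨1, by rw [map_one, Units.val_one, Matrix.one_mulVec, Units.val_one, one_smul]⟩
  mul_mem' := by
    rintro g h ⟨c, hc⟩ ⟨d, hd⟩
    exact ⟨d * c, by rw [map_mul, Units.val_mul, ← Matrix.mulVec_mulVec, hd, Matrix.mulVec_smul, hc, smul_smul,
      Units.val_mul]⟩
  inv_mem' := by
    rintro g ⟨c, hc⟩
    refine ⟨c⁻¹, ?_⟩
    have h := congrArg (φ g⁻¹ : Mat k N).mulVec hc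
    rw [Matrix.mulVec_mulVec, ← Units.val_mul, ← map_mul, inv_mul_cancel, map_one, Units.val_one, Matrix.one_mulVec,
      Matrix.mulVec_smul] at h
    conv_rhs => rw [h, smul_smul, ← Units.val_mul, inv_mul_cancel, Units.val_one, one_smul]

/-- A step towards a torus eigenvector in the cone of pairs: the lowest weight component. -/
theorem exists_lower (hlau : ∀ j, IsLaurent (φ.comp (e j)))
    (hcl : ∀ x w, PairCl φ v w₀ x w → ∃ (g : Pt G) (a b : k),
      x = a • (φ g : Mat k N).mulVec v ∧ w = b • Matrix.vecMul w₀ (φ g⁻¹ : Mat k N))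
    (hv : v ≠ 0) (j : Fin r) (g : Pt G) (b : k)
    (hw : ∀ u : kˣ, ∃ c : k, c ≠ 0 ∧ Matrix.vecMul (b • Matrix.vecMul w₀ (φ g⁻¹ : Mat k N)) (φ (e j u⁻¹) : Mat k N) =
      c • (b • Matrix.vecMul w₀ (φ g⁻¹ : Mat k N))) :
    ∃ (g' : Pt G) (a' b' : k) (M : Mat k N) (m : ℤ), a' ≠ 0 ∧
      b • Matrix.vecMul w₀ (φ g⁻¹ : Mat k N) = b' • Matrix.vecMul w₀ (φ g'⁻¹ : Mat k N) ∧
      a' • (φ g' : Mat k N).mulVec v = M.mulVec ((φ g : Mat k N).mulVec v) ∧
      (∀ t : kˣ, (φ (e j t) : Mat k N).mulVec (M.mulVec ((φ g : Mat k N).mulVec v)) =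
        ((t ^ m : kˣ) : k) • M.mulVec ((φ g : Mat k N).mulVec v)) ∧
      (∀ A : Mat k N, (∀ t, Commute A (φ (e j t) : Mat k N)) → Commute A M) ∧
      ∀ f : Vec k N →ₗ[k] k, (∀ t : kˣ, f ((φ (e j t) : Mat k N).mulVec ((φ g : Mat k N).mulVec v)) = 0) →
        f (M.mulVec ((φ g : Mat k N).mulVec v)) = 0 := by
  classical
  obtain ⟨s, P, hP, hP1, hPe, hPc⟩ := exists_weights (hlau j)
  set x := (φ g : Mat k N).mulVec v with hx
  set w := b • Matrix.vecMul w₀ (φ g⁻¹ : Mat k N) with hwdef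
  have hx0 : x ≠ 0 := fun h => hv (by
    rw [← Matrix.one_mulVec v, ← Units.val_one, ← map_one φ, ← inv_mul_cancel g, map_mul, Units.val_mul,
      ← Matrix.mulVec_mulVec, ← hx, h, Matrix.mulVec_zero])
  let S₀ := s.filter fun i => (P i).mulVec x ≠ 0
  have hne : S₀.Nonempty := by
    by_contra hcon
    rw [Finset.not_nonempty_iff_eq_empty, Finset.filter_eq_empty_iff] at hcon
    refine hx0 ?_
    rw [← Matrix.one_mulVec x, ← hP1, Matrix.sum_mulVec]
    exact Finset.sum_eq_zero fun i hi => not_not.mp (hcon hi)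
  obtain ⟨m, hm, hmin⟩ : ∃ m ∈ S₀, ∀ i ∈ S₀, m ≤ i :=
    ⟨S₀.min' hne, S₀.min'_mem hne, fun i hi => S₀.min'_le i hi⟩
  obtain ⟨hms, hmx⟩ := Finset.mem_filter.mp hm
  let d : ℤ → ℕ := fun i => (i - m).toNat
  have hd : ∀ i ∈ S₀, (d i : ℤ) = i - m := fun i hi => Int.toNat_of_nonneg (by have := hmin i hi; omega)
  let ww : ℤ → Vec k N := fun i => if i = m then w else 0
  have key : ∀ u : kˣ, InClo (pairRep φ) (pairL v w₀)
      (Sum.elim (∑ i ∈ S₀, (u : k) ^ d i • (P i).mulVec x) (∑ i ∈ S₀, (u : k) ^ d i • ww i)) := by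
    intro u
    obtain ⟨c, hc0, hc⟩ := hw u
    have h := inClo_pair φ v w₀ (e j u * g) ((u ^ (-m) : kˣ) : k) (b * c⁻¹)
    convert h using 2
    · rw [map_mul, Units.val_mul, ← Matrix.mulVec_mulVec, ← hx,
        show (φ (e j u) : Mat k N) = ((φ.comp (e j)) u : GLk k N) from rfl, mulVec_weights hP, Finset.smul_sum]
      refine (Finset.sum_congr rfl fun i hi => ?_).trans (Finset.sum_subset (Finset.filter_subset _ _) fun i hi hi' => ?_)
      · rw [smul_smul, zpow_shift u (-m) i (d i) (by rw [hd i hi]; ring)]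
      · rw [not_not.mp fun h0 => hi' (Finset.mem_filter.mpr ⟨hi, h0⟩), smul_zero, smul_zero]
    · rw [Finset.sum_eq_single_of_mem m hm fun i _ hne' => by simp [ww, hne']]
      simp only [ww, if_true, d, sub_self, Int.toNat_zero, pow_zero, one_smul]
      rw [_root_.mul_inv_rev, map_mul, Units.val_mul, ← Matrix.vecMul_vecMul, _root_.mul_comm b, mul_smul,
        ← Matrix.smul_vecMul b, ← hwdef, ← map_inv (e j) u, hc, inv_smul_smul₀ hc0]
  have hlim := inClo_limit φ v w₀ S₀ d (fun i => (P i).mulVec x) ww m hm (by simp [d])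
    (fun i hi hne' h0 => hne' (by have := hd i hi; rw [h0] at this; omega)) key
  simp only [ww, if_true] at hlim
  obtain ⟨g', a', b', ha, hb⟩ := hcl _ _ hlim
  refine ⟨g', a', b', P m, m, fun h => hmx (by rw [ha, h, zero_smul]), hb, ha.symm, fun t => ?_,
    fun A hA => hPc A hA m hms, fun f hf => ?_⟩
  · rw [Matrix.mulVec_mulVec, show (φ (e j t) : Mat k N) = ((φ.comp (e j)) t : GLk k N) from rfl, hPe t m hms,
      Matrix.smul_mulVec]
  · refine laurent_zero (c := fun i => f ((P i).mulVec x)) (fun t => ?_) m hms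
    have h1 := hf t
    rw [show (φ (e j t) : Mat k N) = ((φ.comp (e j)) t : GLk k N) from rfl, mulVec_weights hP, map_sum] at h1
    refine Eq.trans (Finset.sum_congr rfl fun i _ => ?_) h1
    rw [map_smul, smul_eq_mul, _root_.mul_comm]

/-- **Torus eigenvectors in the cone of pairs** with a given second component, preserving linear conditions. -/
theorem exists_eigen_pair (hlau : ∀ j, IsLaurent (φ.comp (e j)))
    (hcomm : ∀ i j s t, Commute (φ (e i s) : Mat k N) (φ (e j t)))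
    (hcl : ∀ x w, PairCl φ v w₀ x w → ∃ (g : Pt G) (a b : k),
      x = a • (φ g : Mat k N).mulVec v ∧ w = b • Matrix.vecMul w₀ (φ g⁻¹ : Mat k N))
    (hv : v ≠ 0) (w : Vec k N)
    (hw : ∀ j u, ∃ c : k, c ≠ 0 ∧ Matrix.vecMul w (φ (e j u) : Mat k N) = c • w)
    {K : Type*} (f : K → Vec k N →ₗ[k] k)
    (hf : ∀ l j t, ∃ c : k, ∀ y, f l ((φ (e j t) : Mat k N).mulVec y) = c * f l y)
    (g₀ : Pt G) (b₀ : k) (hw₀ : w = b₀ • Matrix.vecMul w₀ (φ g₀⁻¹ : Mat k N))
    (hf₀ : ∀ l, f l ((φ g₀ : Mat k N).mulVec v) = 0) :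
    ∃ (g : Pt G) (b : k), w = b • Matrix.vecMul w₀ (φ g⁻¹ : Mat k N) ∧ (∀ l, f l ((φ g : Mat k N).mulVec v) = 0) ∧
      ∀ j t, e j t ∈ eigSub φ ((φ g : Mat k N).mulVec v) := by
  classical
  suffices h : ∀ S : Finset (Fin r), ∃ (g : Pt G) (b : k), w = b • Matrix.vecMul w₀ (φ g⁻¹ : Mat k N) ∧
      (∀ l, f l ((φ g : Mat k N).mulVec v) = 0) ∧ ∀ j ∈ S, ∀ t, e j t ∈ eigSub φ ((φ g : Mat k N).mulVec v) by
    obtain ⟨g, b, h1, h2, h3⟩ := h Finset.univ
    exact ⟨g, b, h1, h2, fun j => h3 j (Finset.mem_univ j)⟩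
  intro S
  induction S using Finset.induction with
  | empty => exact ⟨g₀, b₀, hw₀, hf₀, by simp⟩
  | insert j S hj ih =>
    obtain ⟨g, b, hwg, hfg, hS⟩ := ih
    obtain ⟨g', a', b', M, m, ha', hwg', hM, hMj, hMc, hMf⟩ :=
      exists_lower φ v w₀ e hlau hcl hv j g b (fun u => by
        obtain ⟨c, hc0, hc⟩ := hw j u⁻¹
        exact ⟨c, hc0, by rw [← hwg]; exact hc⟩)
    have hgv : (φ g' : Mat k N).mulVec v = a'⁻¹ • M.mulVec ((φ g : Mat k N).mulVec v) := by
      rw [← hM, inv_smul_smul₀ ha']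
    refine ⟨g', b', hwg.trans hwg', fun l => ?_, fun i hi t => ?_⟩
    · rw [hgv, map_smul, hMf (f l) fun t => by
        obtain ⟨c, hc⟩ := hf l j t
        rw [hc, hfg, mul_zero], smul_zero]
    · rcases Finset.mem_insert.mp hi with rfl | hi'
      · exact ⟨t ^ m, by rw [hgv, Matrix.mulVec_smul, hMj, smul_comm]⟩
      · obtain ⟨c, hc⟩ := hS i hi' t
        refine ⟨c, ?_⟩
        rw [hgv, Matrix.mulVec_smul, Matrix.mulVec_mulVec, (hMc _ fun u => hcomm i j t u).eq,
          ← Matrix.mulVec_mulVec, hc, Matrix.mulVec_smul, smul_comm]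

end H21Chev
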